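import Mathlib.CategoryTheory.Abelian.Basic
import Mathlib.CategoryTheory.Preadditive.AdditiveFunctor
import Mathlib.Algebra.Homology.ShortComplex.ShortExact
import Mathlib.Algebra.Homology.ShortComplex.ExactFunctor
import Groth.Agent.LoccohB.HHmap

/-!
# Kernels of maps out of biproducts, scalars and pullback
-/

set_option autoImplicit false

open CategoryTheory CategoryTheory.Limits

namespace K709.KerDesc

section

universe v u

variable {C : Type u} [Category.{v} C] [Abelian C]

/-- The kernel of `(s, u) : M ⊕ D ⟶ D'` with `u` invertible is `M`. -/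
noncomputable def kerDescIso {M D D' : C} (s : M ⟶ D') (u : D ⟶ D') [IsIso u] :
    kernel (biprod.desc s u) ≅ M where
  hom := kernel.ι _ ≫ biprod.fst
  inv := kernel.lift _ (biprod.lift (𝟙 M) (-(s ≫ inv u))) (by
    rw [biprod.lift_desc]
    simp)
  hom_inv_id := by
    rw [← cancel_mono (kernel.ι _), Category.assoc, kernel.lift_ι, Category.id_comp, Category.assoc]
    have h := kernel.condition (biprod.desc s u)
    have h0 : kernel.ι (biprod.desc s u) ≫ biprod.desc s u =
        kernel.ι (biprod.desc s u) ≫ (biprod.fst ≫ s + biprod.snd ≫ u) := by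
      congr 1
      exact biprod.desc_eq
    rw [h0, Preadditive.comp_add, ← Category.assoc, ← Category.assoc] at h
    apply biprod.hom_ext
    · simp
    · simp only [Category.assoc, biprod.lift_snd, Preadditive.comp_neg]
      rw [← Category.assoc, ← Category.assoc, neg_eq_iff_add_eq_zero, ← cancel_mono u, Preadditive.add_comp,
        Category.assoc _ (inv u) u, IsIso.inv_hom_id, Category.comp_id, zero_comp]
      exact h
  inv_hom_id := by
    rw [← Category.assoc, kernel.lift_ι, biprod.lift_fst]

/-- The kernel of `(s, 0) : M ⊕ D ⟶ D'` is `ker s ⊕ D`. -/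
noncomputable def kerDescZeroIso {M D D' : C} (s : M ⟶ D') :
    kernel (biprod.desc s (0 : D ⟶ D')) ≅ kernel s ⊞ D where
  hom := biprod.lift (kernel.lift s (kernel.ι _ ≫ biprod.fst) (by
    have h := kernel.condition (biprod.desc s (0 : D ⟶ D'))
    have h0 : biprod.desc s (0 : D ⟶ D') = biprod.fst ≫ s := by
      apply biprod.hom_ext' <;> simp
    rw [Category.assoc]
    exact (congrArg (fun q => kernel.ι (biprod.desc s (0 : D ⟶ D')) ≫ q) h0).symm.trans h)) (kernel.ι _ ≫ biprod.snd)
  inv := kernel.lift _ (biprod.map (kernel.ι s) (𝟙 D)) (by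
    apply biprod.hom_ext' <;> simp)
  hom_inv_id := by
    rw [← cancel_mono (kernel.ι _), Category.assoc, kernel.lift_ι, Category.id_comp]
    apply biprod.hom_ext <;> simp
  inv_hom_id := by
    apply biprod.hom_ext
    · rw [← cancel_mono (kernel.ι s)]
      simp
    · simp

end

section

universe v u v' u'

variable {C : Type u} [Category.{v} C] [Abelian C] {D : Type u'} [Category.{v'} D] [Abelian D]

/-- The image under `F` of the kernel of an epimorphism `(s, t)`, when `F` preserves the short exact sequence. -/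
theorem nonempty_map_kernel_desc (F : C ⥤ D) [F.Additive] {M N P : C} (s : M ⟶ P) (t : N ⟶ P)
    [Epi (biprod.desc s t)]
    (h : ((ShortComplex.mk (kernel.ι (biprod.desc s t)) (biprod.desc s t)
      (kernel.condition _)).map F).ShortExact) :
    Nonempty (F.obj (kernel (biprod.desc s t)) ≅ kernel (biprod.desc (F.map s) (F.map t))) := by
  have h1 := h.fIsKernel
  have e1 : F.obj (kernel (biprod.desc s t)) ≅ kernel (F.map (biprod.desc s t)) :=
    h1.conePointUniqueUpToIso (limit.isLimit _)
  have := preservesBinaryBiproducts_of_preservesBiproducts F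
  have e2 : kernel (biprod.desc (F.map s) (F.map t)) ≅ kernel (F.map (biprod.desc s t)) :=
    kernelIsoOfEq (biprod.mapBiprod_inv_map_desc F M N (f := s) (g := t)).symm ≪≫
      kernelIsIsoComp (F.mapBiprod M N).inv (F.map (biprod.desc s t))
  exact ⟨e1 ≪≫ e2.symm⟩

end

section Scalars

universe u

open AlgebraicGeometry Groth.Agent.LoccohB.HHmap Opposite

variable {X Y : Scheme.{u}}

theorem smulHom_one (F : X.Modules) : smulHom F 1 = 𝟙 F := by
  apply Scheme.Modules.hom_ext
  intro V
  ext s
  rw [smulHom_app]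
  change (X.presheaf.map _).hom 1 • s = s
  rw [map_one, one_smul]

theorem smulHom_zero (F : X.Modules) : smulHom F 0 = 0 := by
  apply Scheme.Modules.hom_ext
  intro V
  ext s
  rw [smulHom_app]
  change (X.presheaf.map _).hom 0 • s = 0
  rw [map_zero, zero_smul]

theorem smulHom_mul (F : X.Modules) (r r' : Γ(X, ⊤)) : smulHom F (r * r') = smulHom F r' ≫ smulHom F r := by
  apply Scheme.Modules.hom_ext
  intro V
  ext s
  rw [smulHom_app]
  change (X.presheaf.map _).hom (r * r') • s = (smulHom F r).app V ((smulHom F r').app V s)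
  rw [smulHom_app, smulHom_app, map_mul, mul_smul]
  rfl

theorem isIso_smulHom (F : X.Modules) {r : Γ(X, ⊤)} (hr : IsUnit r) : IsIso (smulHom F r) := by
  obtain ⟨r', h1⟩ := hr.exists_left_inv
  refine ⟨smulHom F r', ?_, ?_⟩
  · rw [← smulHom_mul, h1, smulHom_one]
  · rw [← smulHom_mul, mul_comm, h1, smulHom_one]

theorem pushforward_map_smulHom (f : X ⟶ Y) (G : X.Modules) (r : Γ(Y, ⊤)) :
    (Scheme.Modules.pushforward f).map (smulHom G (f.appTop r)) =
      smulHom ((Scheme.Modules.pushforward f).obj G) r := by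
  apply Scheme.Modules.hom_ext
  intro V
  ext s
  rw [smulHom_app]
  change @HSMul.hSMul Γ(X, f ⁻¹ᵁ V) Γ(G, f ⁻¹ᵁ V) Γ(G, f ⁻¹ᵁ V) _ ((X.presheaf.map _).hom ((f.app ⊤).hom r)) s =
    @HSMul.hSMul Γ(X, f ⁻¹ᵁ V) Γ(G, f ⁻¹ᵁ V) Γ(G, f ⁻¹ᵁ V) _ ((f.app V).hom ((Y.presheaf.map _).hom r)) s
  congr 1
  have h := f.naturality (homOfLE (le_top : V ≤ ⊤)).op
  exact (ConcreteCategory.congr_hom h r).symm

theorem pullback_map_smulHom (f : X ⟶ Y) (F : Y.Modules) (r : Γ(Y, ⊤)) :
    (Scheme.Modules.pullback f).map (smulHom F r) =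
      smulHom ((Scheme.Modules.pullback f).obj F) (f.appTop r) := by
  apply ((Scheme.Modules.pullbackPushforwardAdjunction f).homEquiv _ _).injective
  have h1 := (Scheme.Modules.pullbackPushforwardAdjunction f).homEquiv_naturality_left (smulHom F r)
    (𝟙 ((Scheme.Modules.pullback f).obj F))
  rw [Category.comp_id] at h1
  rw [h1, Adjunction.homEquiv_unit, Adjunction.homEquiv_unit, CategoryTheory.Functor.map_id]
  erw [Category.comp_id]
  rw [pushforward_map_smulHom]
  exact smulHom_comp _ _

end Scalars

end K709.KerDesc
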