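import Mathlib.RingTheory.LittleWedderburn
import Mathlib.RingTheory.Artinian.Ring
import Mathlib.RingTheory.Jacobson.Ideal
import Mathlib.RingTheory.Idempotents
import Mathlib.FieldTheory.Finite.GaloisField
import Mathlib.FieldTheory.Fixed
import Mathlib.LinearAlgebra.TensorProduct.RightExactness
import Mathlib.LinearAlgebra.Dual.Lemmas
import Mathlib.RingTheory.TensorProduct.Finite
import Mathlib.RingTheory.IsTensorProduct
import Mathlib.FieldTheory.Finite.Extension
import Mathlib.Algebra.Group.Pointwise.Set.ListOfFn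
import Mathlib.Algebra.CharP.Lemmas

/-!
# Finite algebras without idempotents and their scalar extensions

* `exists_residue`: a finite-dimensional algebra `A ≠ 0` over a finite field `k` whose only idempotents are `0` and `1`
  has a surjection onto a finite field `l` over `k` with nilpotent kernel.
-/

set_option autoImplicit false

namespace K709.FDAlg

open scoped TensorProduct Pointwise

universe u

section FiniteRing

variable {A : Type*} [Ring A] [Finite A]

theorem exists_pow_idem (a : A) : ∃ n : ℕ, 0 < n ∧ IsIdempotentElem (a ^ n) := by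
  -- pigeonhole
  obtain ⟨i, j, hij, h⟩ : ∃ i j : ℕ, i < j ∧ a ^ i = a ^ j := by
    have h1 : ¬ Function.Injective (fun n : ℕ => a ^ n) := not_injective_infinite_finite _
    rw [Function.Injective] at h1
    push Not at h1
    obtain ⟨i, j, h, hne⟩ := h1
    rcases lt_or_gt_of_ne hne with hlt | hlt
    · exact ⟨i, j, hlt, h⟩
    · exact ⟨j, i, hlt, h.symm⟩
  obtain ⟨d, hd, rfl⟩ : ∃ d, 0 < d ∧ j = i + d := ⟨j - i, by omega, by omega⟩
  have h2 : ∀ (m t : ℕ), i ≤ m → a ^ (m + t * d) = a ^ m := by
    intro m t hm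
    induction t with
    | zero => simp
    | succ t ih =>
      have : m + (t + 1) * d = (m - i) + (i + d) + t * d := by
        rw [add_mul, one_mul]; omega
      rw [this, pow_add, pow_add, ← h, ← pow_add, ← pow_add]
      have h3 : m - i + i + t * d = m + t * d := by omega
      rw [h3, ih]
  refine ⟨(i + 1) * d, by positivity, ?_⟩
  change a ^ ((i + 1) * d) * a ^ ((i + 1) * d) = a ^ ((i + 1) * d)
  rw [← pow_add]
  refine h2 _ (i + 1) ?_
  nlinarith

theorem isUnit_or_isNilpotent (hidem : ∀ e : A, IsIdempotentElem e → e = 0 ∨ e = 1) (a : A) :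
    IsUnit a ∨ IsNilpotent a := by
  obtain ⟨n, hn, h⟩ := exists_pow_idem a
  rcases hidem _ h with h | h
  · exact Or.inr ⟨n, h⟩
  · left
    exact IsUnit.of_pow_eq_one h hn.ne'

theorem isNilpotent_mul (hidem : ∀ e : A, IsIdempotentElem e → e = 0 ∨ e = 1) (b a : A)
    (ha : IsNilpotent a) : IsNilpotent (b * a) := by
  rcases isUnit_or_isNilpotent hidem (b * a) with h | h
  · obtain ⟨n, hn⟩ := ha
    obtain ⟨u, hu⟩ := h
    -- `a` is left cancellable, hence not nilpotent unless the ring is trivial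
    have h1 : ∀ m : ℕ, a ^ m = 0 → (1 : A) = 0 := by
      intro m
      induction m with
      | zero => intro h; simpa using h
      | succ m ih =>
        intro h2
        apply ih
        have h3 : (b * a) * a ^ m = 0 := by
          rw [mul_assoc, ← pow_succ', h2, mul_zero]
        rw [← hu] at h3
        exact (Units.mul_right_eq_zero u).mp h3
    have h4 := h1 n hn
    exact ⟨1, by rw [pow_one, ← mul_one (b * a), h4, mul_zero]⟩
  · exact h

theorem mem_jacobson_of_isNilpotent (hidem : ∀ e : A, IsIdempotentElem e → e = 0 ∨ e = 1) (a : A)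
    (ha : IsNilpotent a) : a ∈ Ideal.jacobson (⊥ : Ideal A) := by
  rw [Ideal.mem_jacobson_iff]
  intro y
  obtain ⟨u, hu⟩ := (isNilpotent_mul hidem y a ha).isUnit_add_one
  refine ⟨(u⁻¹ : Aˣ), ?_⟩
  rw [Submodule.mem_bot, mul_assoc]
  have : ((u⁻¹ : Aˣ) : A) * (y * a) + ((u⁻¹ : Aˣ) : A) = ((u⁻¹ : Aˣ) : A) * (y * a + 1) := by
    rw [mul_add, mul_one]
  rw [this, ← hu, Units.inv_mul, sub_self]

end FiniteRing

/-- The residue field of a finite-dimensional algebra without nontrivial idempotents over a finite field. -/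
theorem exists_residue (k : Type u) [Field k] [Finite k] (A : Type u) [Ring A] [Nontrivial A] [Algebra k A]
    [Module.Finite k A] (hidem : ∀ e : A, IsIdempotentElem e → e = 0 ∨ e = 1) :
    ∃ (l : Type u) (_ : Field l) (_ : Algebra k l) (_ : Module.Finite k l) (φ : A →ₐ[k] l),
      Function.Surjective φ ∧ ∃ n : ℕ, ∀ v : Fin n → A, (∀ i, φ (v i) = 0) →
        (List.ofFn v).prod = 0 := by
  have hfin : Finite A := Module.finite_of_finite k
  have hart : IsArtinianRing A := inferInstance
  let J : Ideal A := Ideal.jacobson (⊥ : Ideal A)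
  have hJ : J.IsTwoSided := inferInstance
  have hJtop : J ≠ ⊤ := by
    intro h
    have h1 : (1 : A) ∈ J := by rw [h]; trivial
    obtain ⟨z, hz⟩ := Ideal.mem_jacobson_iff.mp h1 (-1)
    rw [Submodule.mem_bot] at hz
    simp at hz
  have hnt : Nontrivial (A ⧸ J) := Ideal.Quotient.nontrivial_iff.mpr hJtop
  have hunit : ∀ x : A ⧸ J, x ≠ 0 → IsUnit x := by
    intro x hx
    obtain ⟨a, rfl⟩ := Ideal.Quotient.mk_surjective x
    rcases isUnit_or_isNilpotent hidem a with h | h
    · exact h.map (Ideal.Quotient.mk J)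
    · exact absurd (Ideal.Quotient.eq_zero_iff_mem.mpr (mem_jacobson_of_isNilpotent hidem a h)) hx
  have hdom : IsDomain (A ⧸ J) := by
    have : NoZeroDivisors (A ⧸ J) := ⟨fun {a b} hab => by
      by_cases ha : a = 0
      · exact Or.inl ha
      · right
        exact ((hunit a ha).mul_right_eq_zero).mp hab⟩
    exact NoZeroDivisors.to_isDomain _
  have hfinq : Finite (A ⧸ J) := Finite.of_surjective _ Ideal.Quotient.mk_surjective
  have hfield : IsField (A ⧸ J) := Finite.isDomain_to_isField (A ⧸ J)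
  obtain ⟨n, hn⟩ : IsNilpotent J := IsArtinianRing.isNilpotent_jacobson_bot
  refine ⟨A ⧸ J, hfield.toField, (inferInstance : Algebra k (A ⧸ J)), ?_, Ideal.Quotient.mkₐ k J,
    Ideal.Quotient.mk_surjective, n, ?_⟩
  · exact Module.Finite.of_surjective (Ideal.Quotient.mkₐ k J).toLinearMap Ideal.Quotient.mk_surjective
  · intro v hv
    have h1 : ∀ i, v i ∈ J := fun i => Ideal.Quotient.eq_zero_iff_mem.mp (hv i)
    have h2 : ∀ (m : ℕ) (w : Fin m → A), (∀ i, w i ∈ J) → (List.ofFn w).prod ∈ J ^ m := by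
      intro m
      induction m with
      | zero => intro w _; rw [Submodule.pow_zero, Ideal.one_eq_top]; trivial
      | succ m ih =>
        intro w hw
        rw [List.ofFn_succ, List.prod_cons, Ideal.IsTwoSided.pow_succ]
        exact Ideal.mul_mem_mul (hw 0) (ih _ fun i => hw i.succ)
    have h3 := h2 n v h1
    rw [hn] at h3
    exact h3

/-- A `k`-algebra section of the residue map. -/
theorem exists_section (k : Type u) [Field k] [Finite k] (A : Type u) [Ring A] [Algebra k A]
    [Module.Finite k A] (l : Type u) [Field l] [Algebra k l] [Module.Finite k l] (φ : A →ₐ[k] l)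
    (hφ : Function.Surjective φ) (n : ℕ) (hn : ∀ v : Fin n → A, (∀ i, φ (v i) = 0) → (List.ofFn v).prod = 0) :
    ∃ s : l →ₐ[k] A, φ.comp s = AlgHom.id k l := by
  classical
  have hfl : Finite l := Module.finite_of_finite k
  have hnil : ∀ a : A, φ a = 0 → a ^ n = 0 := fun a ha => by
    have := hn (fun _ => a) (fun _ => ha)
    rwa [List.ofFn_const, List.prod_replicate] at this
  -- the characteristic
  obtain ⟨p, hp⟩ := CharP.exists k
  have hpp : p.Prime := (CharP.char_is_prime_or_zero k p).resolve_right (by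
    rintro rfl
    have h0 : CharZero k := CharP.charP_to_charZero k
    have h1 : Infinite k := Infinite.of_injective (fun n : ℕ => (n : k)) Nat.cast_injective
    exact not_finite k)
  have : Fact p.Prime := ⟨hpp⟩
  have hntA : Nontrivial A := by
    have : Nontrivial l := inferInstance
    exact hφ.nontrivial
  have hpA : CharP A p := charP_of_injective_algebraMap (algebraMap k A).injective p
  have hpl : CharP l p := charP_of_injective_algebraMap (algebraMap k l).injective p
  cases nonempty_fintype l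
  cases nonempty_fintype k
  obtain ⟨m, -, hm⟩ := FiniteField.card l p
  obtain ⟨m', -, hm'⟩ := FiniteField.card k p
  set Q := p ^ (m : ℕ) with hQ
  have hQl : ∀ x : l, x ^ Q = x := fun x => by
    have := FiniteField.pow_card x
    rwa [hm] at this
  have hQk : ∀ x : k, x ^ Q = x := fun x => by
    apply (algebraMap k l).injective
    rw [map_pow, hQl]
  -- a generator
  obtain ⟨γ, hγ⟩ := IsCyclic.exists_generator (α := lˣ)
  obtain ⟨a, ha⟩ := hφ (γ : l)
  obtain ⟨M, hM⟩ : ∃ M : ℕ, n ≤ Q ^ M := by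
    have hQ1 : 1 < Q := Nat.one_lt_pow m.pos.ne' hpp.one_lt
    exact ⟨n, (Nat.lt_pow_self hQ1).le⟩
  let τ : A := a ^ Q ^ M
  have hφτ : φ τ = γ := by
    change φ (a ^ Q ^ M) = γ
    rw [map_pow, ha]
    have : ∀ M : ℕ, (γ : l) ^ Q ^ M = γ := by
      intro M
      induction M with
      | zero => simp
      | succ M ih => rw [pow_succ, pow_mul, ih, hQl]
    exact this M
  have hτ : τ ^ Q = τ := by
    have h1 : φ (a ^ Q - a) = 0 := by rw [map_sub, map_pow, hQl, sub_self]
    have h2 : (a ^ Q - a) ^ (Q ^ M) = 0 := pow_eq_zero_of_le hM (hnil _ h1)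
    have h3 : Q ^ M = p ^ (m * M : ℕ) := by rw [hQ, pow_mul]
    rw [h3, sub_pow_char_pow_of_commute _ _ ((Commute.refl a).pow_left Q), ← h3, sub_eq_zero] at h2
    change (a ^ Q ^ M) ^ Q = a ^ Q ^ M
    rw [← pow_mul, mul_comm, pow_mul, h2]
  have hgen : ∀ g : Polynomial k, (Polynomial.aeval τ g) ^ Q = Polynomial.aeval τ g := by
    intro g
    induction g using Polynomial.induction_on' with
    | add f g hf hg =>
      rw [map_add]
      have hc : Commute (Polynomial.aeval τ f) (Polynomial.aeval τ g) := by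
        change _ * _ = _ * _
        rw [← map_mul, ← map_mul, mul_comm]
      rw [hQ, add_pow_char_pow_of_commute _ _ hc, ← hQ, hf, hg]
    | monomial i c =>
      rw [Polynomial.aeval_monomial, (show Commute (algebraMap k A c) (τ ^ i) from Algebra.commutes c (τ ^ i)).mul_pow, ← map_pow, hQk,
        ← pow_mul, mul_comm, pow_mul, hτ]
  let ψ : Polynomial k →ₐ[k] l := φ.comp (Polynomial.aeval τ)
  have hψ : Function.Surjective ψ := by
    intro x
    by_cases hx : x = 0
    · exact ⟨0, by rw [hx, map_zero]⟩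
    · obtain ⟨i, hi⟩ := (mem_powers_iff_mem_zpowers.mpr (hγ (Units.mk0 x hx)) :
        Units.mk0 x hx ∈ Submonoid.powers γ)
      refine ⟨Polynomial.X ^ i, ?_⟩
      change φ (Polynomial.aeval τ (Polynomial.X ^ i)) = x
      rw [map_pow, Polynomial.aeval_X, map_pow, hφτ]
      exact congrArg Units.val hi
  have hker : ∀ g : Polynomial k, g ∈ RingHom.ker ψ → Polynomial.aeval τ g = 0 := by
    intro g hg
    have h1 : φ (Polynomial.aeval τ g) = 0 := hg
    have h2 := hnil _ h1
    have h3 : ∀ M : ℕ, (Polynomial.aeval τ g) ^ Q ^ M = Polynomial.aeval τ g := by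
      intro M
      induction M with
      | zero => simp
      | succ M ih => rw [pow_succ, pow_mul, ih, hgen]
    rw [← h3 M]
    exact pow_eq_zero_of_le hM h2
  let s₀ : (Polynomial k ⧸ RingHom.ker ψ) →ₐ[k] A := Ideal.Quotient.liftₐ _ (Polynomial.aeval τ) hker
  let e : (Polynomial k ⧸ RingHom.ker ψ) ≃ₐ[k] l := Ideal.quotientKerAlgEquivOfSurjective hψ
  refine ⟨s₀.comp e.symm.toAlgHom, ?_⟩
  ext x
  obtain ⟨y, rfl⟩ := e.surjective x
  obtain ⟨g, rfl⟩ := Ideal.Quotient.mk_surjective y
  change φ (s₀ (e.symm (e (Ideal.Quotient.mk _ g)))) = e (Ideal.Quotient.mk _ g)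
  rw [AlgEquiv.symm_apply_apply]
  rfl

/-- The degree of the residue field, and residue maps with sections to every extension of that degree. -/
theorem exists_degree (k : Type u) [Field k] [Finite k] (A : Type u) [Ring A] [Nontrivial A] [Algebra k A]
    [Module.Finite k A] (hidem : ∀ e : A, IsIdempotentElem e → e = 0 ∨ e = 1) :
    ∃ d : ℕ, 0 < d ∧ ∀ (l : Type u) [Field l] [Algebra k l], Module.finrank k l = d →
      ∃ (ρ : A →ₐ[k] l) (s : l →ₐ[k] A), ρ.comp s = AlgHom.id k l ∧
        ∃ n : ℕ, ∀ v : Fin n → A, (∀ i, ρ (v i) = 0) → (List.ofFn v).prod = 0 := by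
  obtain ⟨l₀, i1, i2, i3, φ, hφ, n, hn⟩ := exists_residue k A hidem
  obtain ⟨s₀, hs₀⟩ := exists_section k A l₀ φ hφ n hn
  refine ⟨Module.finrank k l₀, Module.finrank_pos, fun l _ _ hl => ?_⟩
  have hfl₀ : Finite l₀ := Module.finite_of_finite k
  have : Module.Finite k l := Module.finite_of_finrank_pos (by rw [hl]; exact Module.finrank_pos)
  have hfl : Finite l := Module.finite_of_finite k
  obtain ⟨e⟩ : Nonempty (l₀ →ₐ[k] l) :=
    FiniteField.nonempty_algHom_of_finrank_dvd (by rw [hl])
  have hbij : Function.Bijective e := by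
    have h2 := (LinearMap.injective_iff_surjective_of_finrank_eq_finrank hl.symm (f := e.toLinearMap)).mp
      e.toRingHom.injective
    exact ⟨e.toRingHom.injective, h2⟩
  let e' : l₀ ≃ₐ[k] l := AlgEquiv.ofBijective e hbij
  refine ⟨(e' : l₀ →ₐ[k] l).comp φ, s₀.comp (e'.symm : l →ₐ[k] l₀), ?_, n, ?_⟩
  · ext x
    change e' (φ (s₀ (e'.symm x))) = x
    rw [show φ (s₀ (e'.symm x)) = e'.symm x from congr($hs₀ _), AlgEquiv.apply_symm_apply]
  · intro v hv
    apply hn
    intro i
    apply e'.injective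
    rw [map_zero]
    exact hv i

section BaseChange

variable {k K : Type*} [Field k] [Field K] [Algebra k K] {A B : Type*} [Ring A] [Algebra k A] [Ring B]
  [Algebra K B] [Algebra k B] [IsScalarTower k K B] (f : A →ₐ[k] B)

/-- If the residue field is `k`, the base change has only trivial idempotents. -/
theorem idem_of_residue (hf : IsBaseChange K f.toLinearMap) (ρ : A →ₐ[k] k) (n : ℕ)
    (hn : ∀ v : Fin n → A, (∀ i, ρ (v i) = 0) → (List.ofFn v).prod = 0) (x : B) (hx : IsIdempotentElem x) :
    x = 0 ∨ x = 1 := by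
  let S : Set B := f '' {a | ρ a = 0}
  let N : Submodule K B := Submodule.span K S
  have hN : ∀ y ∈ N, y ^ n = 0 := by
    intro y hy
    have h1 : y ^ n ∈ N ^ n := Submodule.pow_mem_pow _ hy n
    have h2 : N ^ n = Submodule.span K (S ^ n) := Submodule.span_pow S n
    have h3 : N ^ n = ⊥ := by
      rw [h2, Submodule.span_eq_bot]
      intro z hz
      obtain ⟨g, rfl⟩ := Set.mem_pow.mp hz
      have hg : ∀ i, ∃ a : A, ρ a = 0 ∧ f a = g i := fun i => by
        obtain ⟨a, ha, h⟩ := (g i).2
        exact ⟨a, ha, h⟩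
      choose a ha hag using hg
      have h4 : (List.ofFn fun i => (g i : B)) = (List.ofFn a).map f := by
        rw [List.map_ofFn]
        congr 1
        funext i
        exact (hag i).symm
      rw [h4, ← map_list_prod, hn a ha, map_zero]
    rw [h3] at h1
    exact h1
  have hdec : ∀ x : B, ∃ (c : K) (y : B), y ∈ N ∧ x = algebraMap K B c + y := by
    intro x
    induction x using hf.inductionOn with
    | zero => exact ⟨0, 0, zero_mem _, by simp⟩
    | tmul a =>
      refine ⟨algebraMap k K (ρ a), f (a - algebraMap k A (ρ a)),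
        Submodule.subset_span ⟨_, by simp, rfl⟩, ?_⟩
      rw [map_sub, AlgHom.commutes, ← IsScalarTower.algebraMap_apply]
      simp
    | smul c x h =>
      obtain ⟨c', y, hy, rfl⟩ := h
      refine ⟨c * c', c • y, N.smul_mem c hy, ?_⟩
      rw [smul_add, map_mul, Algebra.smul_def c (algebraMap K B c')]
    | add x y h1 h2 =>
      obtain ⟨c, x, hx, rfl⟩ := h1
      obtain ⟨c', y, hy, rfl⟩ := h2
      refine ⟨c + c', x + y, N.add_mem hx hy, ?_⟩
      rw [map_add]
      abel
  obtain ⟨c, y, hy, rfl⟩ := hdec x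
  have hny : IsNilpotent y := ⟨n, hN y hy⟩
  by_cases hc : c = 0
  · left
    subst hc
    rw [map_zero, zero_add] at hx ⊢
    have h1 : ∀ m : ℕ, y ^ (m + 1) = y := fun m => hx.pow_succ_eq m
    rw [← h1 n, pow_succ, hN y hy, zero_mul]
  · right
    have hu : IsUnit (algebraMap K B c) := (IsUnit.mk0 c hc).map (algebraMap K B)
    have hu2 : IsUnit (algebraMap K B c + y) := by
      obtain ⟨u, hu⟩ := hu
      rw [← hu]
      refine hny.isUnit_add_left_of_commute u.isUnit ?_
      rw [hu]
      exact (show Commute (algebraMap K B c) y from Algebra.commutes c y).symm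
    have h2 : (algebraMap K B c + y) * (algebraMap K B c + y) = (algebraMap K B c + y) * 1 := by
      rw [mul_one]; exact hx
    exact hu2.mul_left_cancel h2

end BaseChange

section Split

variable {k l : Type u} [Field k] [Field l] [Algebra k l] [Module.Finite k l]

/-- The map `l ⊗ l → ∏ l`, `a ⊗ b ↦ (a σ b)_σ`. -/
noncomputable def spl (k l : Type u) [Field k] [Field l] [Algebra k l] : l ⊗[k] l →ₐ[l] ((l ≃ₐ[k] l) → l) :=
  Algebra.TensorProduct.lift (Algebra.ofId l _) (AlgHom.pi fun σ : l ≃ₐ[k] l => (σ : l →ₐ[k] l))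
    (fun _ _ => Commute.all _ _)

omit [Module.Finite k l] in
lemma spl_tmul (a b : l) (σ : l ≃ₐ[k] l) : spl k l (a ⊗ₜ b) σ = a * σ b := by
  rfl

theorem spl_surjective : Function.Surjective (spl k l) := by
  classical
  suffices h : LinearMap.range (spl k l).toLinearMap = ⊤ from LinearMap.range_eq_top.mp h
  by_contra hne
  obtain ⟨φ, hφ0, hφ⟩ := Submodule.exists_le_ker_of_lt_top _ (lt_top_iff_ne_top.mpr hne)
  have : Fintype (l ≃ₐ[k] l) := Fintype.ofFinite _
  have h1 : LinearIndependent l (fun σ : l ≃ₐ[k] l => (σ : l → l)) := by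
    have h2 := linearIndependent_monoidHom l l
    exact h2.comp (fun σ : l ≃ₐ[k] l => ((σ : l →+* l) : l →* l)) (fun σ τ h => by
      ext x
      exact congr($h x))
  have h3 : ∀ b : l, ∑ σ : l ≃ₐ[k] l, φ (Pi.single σ 1) * σ b = 0 := by
    intro b
    have h4 : φ (spl k l (1 ⊗ₜ b)) = 0 := hφ ⟨(1 : l) ⊗ₜ[k] b, rfl⟩
    have h5 : spl k l (1 ⊗ₜ b) = ∑ σ : l ≃ₐ[k] l, σ b • (Pi.single σ 1 : (l ≃ₐ[k] l) → l) := by
      funext τ
      rw [spl_tmul, one_mul, Finset.sum_apply, Finset.sum_eq_single τ]
      · simp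
      · intro σ _ h
        simp [h.symm]
      · intro h; exact absurd (Finset.mem_univ _) h
    rw [h5, map_sum] at h4
    rw [← h4]
    refine Finset.sum_congr rfl fun σ _ => ?_
    rw [map_smul, smul_eq_mul, mul_comm]
  have h6 := Fintype.linearIndependent_iff.mp h1 (fun σ => φ (Pi.single σ 1)) (by
    funext b
    rw [Finset.sum_apply]
    exact h3 b)
  apply hφ0
  apply LinearMap.pi_ext'
  intro σ
  ext
  simpa using h6 σ

theorem spl_bijective [IsGalois k l] : Function.Bijective (spl k l) := by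
  have : Fintype (l ≃ₐ[k] l) := Fintype.ofFinite _
  have h1 : Module.finrank l (l ⊗[k] l) = Module.finrank l ((l ≃ₐ[k] l) → l) := by
    rw [Module.finrank_baseChange, Module.finrank_fintype_fun_eq_card, ← IsGalois.card_aut_eq_finrank k l,
      Nat.card_eq_fintype_card]
  have h2 := (LinearMap.injective_iff_surjective_of_finrank_eq_finrank h1 (f := (spl k l).toLinearMap)).mpr
    spl_surjective
  exact ⟨h2, spl_surjective⟩

/-- The idempotents of `l ⊗ l`. -/
noncomputable def eps (k l : Type u) [Field k] [Field l] [Algebra k l] [Module.Finite k l] [IsGalois k l]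
    (σ : l ≃ₐ[k] l) : l ⊗[k] l := by
  classical
  exact (AlgEquiv.ofBijective (spl k l) spl_bijective).symm (Pi.single σ 1)

open Classical in
lemma spl_eps [IsGalois k l] (σ : l ≃ₐ[k] l) : spl k l (eps k l σ) = Pi.single σ 1 :=
  (AlgEquiv.ofBijective (spl k l) spl_bijective).apply_symm_apply _

lemma eps_complete [IsGalois k l] [Fintype (l ≃ₐ[k] l)] : CompleteOrthogonalIdempotents (eps k l) := by
  classical
  have h := CompleteOrthogonalIdempotents.single (fun _ : l ≃ₐ[k] l => l)
  exact h.map (AlgEquiv.ofBijective (spl k l) spl_bijective).symm.toRingEquiv.toRingHom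

lemma tmul_one_mul_eps [IsGalois k l] (a : l) (σ : l ≃ₐ[k] l) :
    (a ⊗ₜ[k] (1 : l)) * eps k l σ = ((1 : l) ⊗ₜ[k] (σ.symm a)) * eps k l σ := by
  classical
  apply spl_bijective.1
  rw [map_mul, map_mul, spl_eps]
  funext τ
  rw [Pi.mul_apply, Pi.mul_apply, spl_tmul, spl_tmul]
  by_cases h : σ = τ
  · subst h; simp
  · simp [(Ne.symm h : τ ≠ σ)]


variable {A B : Type*} [Ring A] [Algebra k A] [Ring B] [Algebra l B] [Algebra k B] [IsScalarTower k l B]
  (f : A →ₐ[k] B) (s : l →ₐ[k] A)

/-- The map `l ⊗ l → B`. -/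
noncomputable def jj : l ⊗[k] l →ₐ[l] B :=
  Algebra.TensorProduct.lift (Algebra.ofId l B) (f.comp s) (fun a _ => Algebra.commutes a _)

omit [Module.Finite k l] in
lemma jj_tmul (a b : l) : jj f s (a ⊗ₜ b) = a • f (s b) := by
  rw [Algebra.smul_def]
  exact Algebra.TensorProduct.lift_tmul _ _ _ _ _

/-- The idempotents of the base change. -/
theorem exists_idem [IsGalois k l] [Fintype (l ≃ₐ[k] l)] (hf : IsBaseChange l f.toLinearMap) (ρ : A →ₐ[k] l)
    (hρ : ρ.comp s = AlgHom.id k l) :
    ∃ E : (l ≃ₐ[k] l) → B, CompleteOrthogonalIdempotents E ∧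
      (∀ σ a, a • E σ = E σ * f (s (σ.symm a))) ∧
      (∀ σ, ∃ (J : Finset (l × l)), E σ = ∑ i ∈ J, i.1 • f (s i.2) ∧ ∑ i ∈ J, i.1 * σ i.2 = 1) ∧
      (∀ σ τ x y, x * y = E σ → y * x = E τ → σ = τ) := by
  classical
  refine ⟨fun σ => jj f s (eps k l σ), ?_, ?_, ?_, ?_⟩
  · exact eps_complete.map (jj f s).toRingHom
  · intro σ a
    have h1 := congrArg (jj f s) (tmul_one_mul_eps a σ)
    rw [map_mul, map_mul, jj_tmul, jj_tmul, map_one, map_one, one_smul, smul_mul_assoc, one_mul] at h1
    rw [h1]
    have h2 : f (s (σ.symm a)) = jj f s ((1 : l) ⊗ₜ (σ.symm a)) := by rw [jj_tmul, one_smul]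
    rw [h2, ← map_mul, ← map_mul, mul_comm]
  · intro σ
    obtain ⟨J, hJ⟩ := TensorProduct.exists_finset (eps k l σ)
    refine ⟨J, ?_, ?_⟩
    · change jj f s (eps k l σ) = _
      rw [hJ, map_sum]
      exact Finset.sum_congr rfl fun i _ => jj_tmul f s i.1 i.2
    · have h1 := congrFun (spl_eps σ) σ
      rw [Pi.single_eq_same, hJ, map_sum, Finset.sum_apply] at h1
      exact h1
  · intro σ τ x y hxy hyx
    let g : A →ₐ[k] ((l ≃ₐ[k] l) → l) := AlgHom.pi fun σ : l ≃ₐ[k] l => (σ : l →ₐ[k] l).comp ρ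
    let ψ : B →ₗ[l] ((l ≃ₐ[k] l) → l) := hf.lift g.toLinearMap
    have hψ : ∀ a, ψ (f a) = g a := fun a => hf.lift_eq g.toLinearMap a
    have hmul : ∀ x y, ψ (x * y) = ψ x * ψ y := by
      intro x y
      induction x using hf.inductionOn with
      | zero => rw [zero_mul, map_zero, zero_mul]
      | tmul a =>
        change ψ (f a * y) = ψ (f a) * ψ y
        induction y using hf.inductionOn with
        | zero => rw [mul_zero, map_zero, mul_zero]
        | tmul b =>
          change ψ (f a * f b) = ψ (f a) * ψ (f b)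
          rw [← map_mul, hψ, hψ, hψ, map_mul]
        | smul c y h => rw [mul_smul_comm, map_smul, map_smul, h, mul_smul_comm]
        | add x y h1 h2 => rw [mul_add, map_add, map_add, h1, h2, mul_add]
      | smul c y h => rw [smul_mul_assoc, map_smul, map_smul, h, smul_mul_assoc]
      | add x y h1 h2 => rw [add_mul, map_add, map_add, h1, h2, add_mul]
    have hjj : ∀ z, ψ (jj f s z) = spl k l z := by
      intro z
      induction z with
      | zero => rw [map_zero, map_zero, map_zero]
      | tmul a b =>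
        rw [jj_tmul, map_smul, hψ]
        funext τ
        rw [spl_tmul, Pi.smul_apply, smul_eq_mul]
        congr 1
        change τ (ρ (s b)) = τ b
        rw [show ρ (s b) = b from congr($hρ b)]
      | add x y h1 h2 => rw [map_add, map_add, map_add, h1, h2]
    have h1 : (Pi.single σ 1 : (l ≃ₐ[k] l) → l) = Pi.single τ 1 := by
      rw [← spl_eps, ← spl_eps, ← hjj, ← hjj]
      rw [show jj f s (eps k l σ) = x * y from hxy.symm, show jj f s (eps k l τ) = y * x from hyx.symm,
        hmul, hmul, mul_comm]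
    by_contra hne
    have h2 := congrFun h1 σ
    rw [Pi.single_eq_same, Pi.single_eq_of_ne hne] at h2
    exact one_ne_zero h2

end Split

section Lin

variable {k l : Type*} [Field k] [Field l] [Algebra k l] {V W : Type*} [AddCommGroup V] [Module k V]
  [AddCommGroup W] [Module k W] [Module l W] [IsScalarTower k l W]

/-- The image of the idempotent acting on the base change of `V` is `V`. -/
theorem bijOn_idem (f : V →ₗ[k] W) (hf : IsBaseChange l f) (t : l →ₐ[k] Module.End k V) (p : W →+ W)
    (hpl : ∀ (a : l) (w : W), p (a • w) = a • p w)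
    (h2 : ∀ (a : l) (v : V), a • p (f v) = p (f (t a v)))
    (h3 : ∃ (J : Finset (l × l)) (b : l × l → l), (∀ v, p (f v) = ∑ i ∈ J, i.1 • f (t (b i) v)) ∧
      ∑ i ∈ J, i.1 * b i = 1) :
    ∃ g : W →+ V, (∀ v, g (p (f v)) = v) ∧ (∀ w, p w = p (f (g w))) := by
  let _ : Module l V := Module.compHom V (t : l →+* Module.End k V)
  have hsm : ∀ (a : l) (v : V), a • v = t a v := fun _ _ => rfl
  have : IsScalarTower k l V := ⟨fun a b v => by
    rw [hsm, hsm, map_smul, LinearMap.smul_apply]⟩
  let g : W →ₗ[l] V := hf.lift LinearMap.id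
  have hg : ∀ v, g (f v) = v := fun v => hf.lift_eq LinearMap.id v
  refine ⟨g.toAddMonoidHom, ?_, ?_⟩
  · intro v
    obtain ⟨J, b, hJ, hJ1⟩ := h3
    change g (p (f v)) = v
    rw [hJ, map_sum]
    have h4 : ∀ i ∈ J, g (i.1 • f (t (b i) v)) = (i.1 * b i) • v := fun i _ => by
      rw [map_smul, hg, mul_smul, hsm (b i) v]
    rw [Finset.sum_congr rfl h4, ← Finset.sum_smul, hJ1, one_smul]
  · intro w
    change p w = p (f (g w))
    induction w using hf.inductionOn with
    | zero => simp
    | tmul v => rw [hg]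
    | smul c w h => rw [hpl, h, map_smul, hsm, h2]
    | add x y h1 h2 => rw [map_add, map_add, map_add, map_add, ← h1, ← h2]

end Lin

end K709.FDAlg
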