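import Groth.Agent.ASBun.K792.EndPow
import Mathlib.CategoryTheory.Abelian.Basic
import Mathlib.RingTheory.Idempotents
import Mathlib.CategoryTheory.Endomorphism

/-!
# Idempotent endomorphisms and direct sum decompositions in abelian categories
-/

set_option autoImplicit false
universe v u w

open CategoryTheory CategoryTheory.Limits K792.EndPow

namespace K709.FDCat

variable {C : Type u} [Category.{v} C] [Abelian C] {E : C}

/-- A complete orthogonal family of idempotent endomorphisms gives a decomposition. -/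
theorem exists_dec {κ : Type w} [Fintype κ] (e : κ → End E) (he : CompleteOrthogonalIdempotents e) :
    ∃ (L : κ → C) (D : Dec E L), ∀ i, D.π i ≫ D.ι i = e i := by
  have hself : ∀ i, (show E ⟶ E from e i) ≫ (show E ⟶ E from e i) = e i := fun i => he.idem i
  have hne : ∀ i j, i ≠ j → (show E ⟶ E from e i) ≫ (show E ⟶ E from e j) = 0 := fun i j h =>
    he.ortho (Ne.symm h)
  refine ⟨fun i => image (show E ⟶ E from e i),
    { ι := fun i => image.ι _
      π := fun i => factorThruImage _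
      ι_π_self := fun i => ?_
      ι_π_ne := fun i j h => ?_
      sum := ?_ }, fun i => image.fac _⟩
  · rw [← cancel_epi (factorThruImage (show E ⟶ E from e i)), ← cancel_mono (image.ι (show E ⟶ E from e i)),
      Category.comp_id, Category.assoc, Category.assoc, image.fac, image.fac_assoc, hself]
  · rw [← cancel_epi (factorThruImage (show E ⟶ E from e i)), ← cancel_mono (image.ι (show E ⟶ E from e j)),
      comp_zero, zero_comp, Category.assoc, Category.assoc, image.fac, image.fac_assoc, hne i j h]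
  · have h1 : ∀ i, factorThruImage (show E ⟶ E from e i) ≫ image.ι (show E ⟶ E from e i) = e i :=
      fun i => image.fac _
    rw [Finset.sum_congr rfl fun i _ => h1 i]
    exact he.complete

theorem isZero_of_dec {κ : Type w} [Fintype κ] {L : κ → C} (D : Dec E L) (i : κ) (h : D.π i ≫ D.ι i = 0) :
    IsZero (L i) := by
  rw [IsZero.iff_id_eq_zero]
  calc 𝟙 (L i) = D.ι i ≫ D.π i := (D.ι_π_self i).symm
    _ = D.ι i ≫ (D.π i ≫ D.ι i) ≫ D.π i := by
      rw [Category.assoc, D.ι_π_self, Category.comp_id, D.ι_π_self]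
    _ = 0 := by rw [h, zero_comp, comp_zero]

/-- The biproduct decomposition given by a two-element family. -/
noncomputable def biprodIso {L : Bool → C} (D : Dec E L) : E ≅ L true ⊞ L false where
  hom := biprod.lift (D.π true) (D.π false)
  inv := biprod.desc (D.ι true) (D.ι false)
  hom_inv_id := by
    rw [biprod.lift_desc, ← D.sum]
    simp
  inv_hom_id := by
    apply biprod.hom_ext' <;> apply biprod.hom_ext
    · simp [D.ι_π_self]
    · simp [D.ι_π_ne true false (by simp)]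
    · simp [D.ι_π_ne false true (by simp)]
    · simp [D.ι_π_self]

/-- The endomorphism ring of an indecomposable object has only trivial idempotents. -/
theorem idem_of_indec (h : ∀ E₁ E₂ : C, Nonempty (E ≅ E₁ ⊞ E₂) → IsZero E₁ ∨ IsZero E₂) (e : End E)
    (he : IsIdempotentElem e) : e = 0 ∨ e = 1 := by
  let f : Bool → End E := fun b => cond b e (1 - e)
  have hf : CompleteOrthogonalIdempotents f := by
    refine ⟨⟨?_, ?_⟩, ?_⟩
    · rintro (_ | _)
      · exact he.one_sub
      · exact he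
    · rintro (_ | _) (_ | _) hb
      · exact absurd rfl hb
      · change (1 - e) * e = 0
        rw [sub_mul, one_mul, he.eq, sub_self]
      · change e * (1 - e) = 0
        rw [mul_sub, mul_one, he.eq, sub_self]
      · exact absurd rfl hb
    · rw [Fintype.sum_bool]
      change e + (1 - e) = 1
      abel
  obtain ⟨L, D, hD⟩ := exists_dec f hf
  rcases h _ _ ⟨biprodIso D⟩ with h1 | h1
  · left
    have h2 : D.π true ≫ D.ι true = e := hD true
    rw [h1.eq_zero_of_tgt (D.π true), zero_comp] at h2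
    exact h2.symm
  · right
    have h2 : D.π false ≫ D.ι false = (1 : End E) - e := hD false
    rw [h1.eq_zero_of_tgt (D.π false), zero_comp] at h2
    exact (sub_eq_zero.mp h2.symm).symm

theorem exists_idem_of_iso {E₁ E₂ : C} (i : E ≅ E₁ ⊞ E₂) (h1 : ¬ IsZero E₁) (h2 : ¬ IsZero E₂) :
    ∃ e : End E, IsIdempotentElem e ∧ e ≠ 0 ∧ e ≠ 1 := by
  refine ⟨i.hom ≫ biprod.fst ≫ biprod.inl ≫ i.inv, ?_, ?_, ?_⟩
  · change (i.hom ≫ biprod.fst ≫ biprod.inl ≫ i.inv) ≫ (i.hom ≫ biprod.fst ≫ biprod.inl ≫ i.inv) = _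
    simp
  · intro h
    apply h1
    rw [IsZero.iff_id_eq_zero]
    have h3 : (biprod.inl ≫ i.inv) ≫ (i.hom ≫ biprod.fst ≫ biprod.inl ≫ i.inv) ≫ (i.hom ≫ biprod.fst) = 𝟙 E₁ := by
      simp
    rw [← h3]
    have h4 : (i.hom ≫ biprod.fst ≫ biprod.inl ≫ i.inv : E ⟶ E) = 0 := h
    rw [h4, zero_comp, comp_zero]
  · intro h
    apply h2
    rw [IsZero.iff_id_eq_zero]
    have h3 : (biprod.inr ≫ i.inv) ≫ (i.hom ≫ biprod.fst ≫ biprod.inl ≫ i.inv) ≫ (i.hom ≫ biprod.snd) = 0 := by
      simp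
    have h4 : (i.hom ≫ biprod.fst ≫ biprod.inl ≫ i.inv : E ⟶ E) = 𝟙 E := h
    rw [h4, Category.id_comp] at h3
    rw [← h3]
    simp

/-- Summands with inverse compositions. -/
theorem exists_of_iso {κ : Type w} [Fintype κ] {L : κ → C} (D : Dec E L) (i j : κ) (a : L i ≅ L j) :
    ∃ x y : End E, x * y = D.π i ≫ D.ι i ∧ y * x = D.π j ≫ D.ι j := by
  refine ⟨D.π j ≫ a.inv ≫ D.ι i, D.π i ≫ a.hom ≫ D.ι j, ?_, ?_⟩
  · change (D.π i ≫ a.hom ≫ D.ι j) ≫ (D.π j ≫ a.inv ≫ D.ι i) = _
    have h : (D.π i ≫ a.hom ≫ D.ι j) ≫ (D.π j ≫ a.inv ≫ D.ι i) = D.π i ≫ a.hom ≫ (D.ι j ≫ D.π j) ≫ a.inv ≫ D.ι i := by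
      simp
    rw [h, D.ι_π_self]
    simp
  · change (D.π j ≫ a.inv ≫ D.ι i) ≫ (D.π i ≫ a.hom ≫ D.ι j) = _
    have h : (D.π j ≫ a.inv ≫ D.ι i) ≫ (D.π i ≫ a.hom ≫ D.ι j) = D.π j ≫ a.inv ≫ (D.ι i ≫ D.π i) ≫ a.hom ≫ D.ι j := by
      simp
    rw [h, D.ι_π_self]
    simp

/-- Reindexing. -/
def reindex {κ κ' : Type w} [Fintype κ] [Fintype κ'] {L : κ → C} (D : Dec E L) (r : κ' ≃ κ) :
    Dec E (fun i => L (r i)) where
  ι i := D.ι (r i)
  π i := D.π (r i)
  ι_π_self i := D.ι_π_self _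
  ι_π_ne i j h := D.ι_π_ne _ _ (fun h' => h (r.injective h'))
  sum := by rw [Equiv.sum_comp r (fun i => D.π i ≫ D.ι i), D.sum]

end K709.FDCat
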