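import Groth.Agent.ASBun.K792.EndBC
import Groth.Agent.ASBun.K792.HomFin
import Groth.Agent.CohqA.PullbackQCoh
import Groth.Agent.VBCurve.K709.FDAlg
import Groth.Agent.VBCurve.K709.FDCat

/-!
# Decomposition of the base change of an indecomposable module over a finite field

`X` proper over a finite field `k`, `E` coherent and indecomposable. `exists_decomp`: there is `d ≥ 1` such that
over the extension `l` of degree `d` the pullback of `E` is the direct sum of `d` non-zero pairwise non-isomorphic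
modules `M i` with `π_* (M i) ≅ E`; if `d = 1` then `E` is indecomposable over every extension.
-/

set_option autoImplicit false
set_option backward.isDefEq.respectTransparency false
universe u
open CategoryTheory CategoryTheory.Limits AlgebraicGeometry Opposite TopologicalSpace

namespace K709.FinDesc

open Groth.Agent K792.SecBC K792.HomBC K792.EndBC K792.EndPow

attribute [local instance] Groth.Agent.CurvesC.LinMod.linearModules

section act

variable (A : Type u) [CommRing A] {X : Scheme.{u}} [X.Over (Spec (CommRingCat.of A))]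

/-- The action of endomorphisms on sections. -/
noncomputable def act (E : X.Modules) (U : X.Opens) : End E →ₐ[A] Module.End A (SecM A E U) where
  toFun φ :=
    { toFun := fun m => φ.app U m
      map_add' := fun x y => map_add (φ.app U).hom x y
      map_smul' := fun a x => Scheme.Modules.Hom.app_smul φ (sc A X U a) x }
  map_one' := rfl
  map_mul' φ ψ := rfl
  map_zero' := rfl
  map_add' φ ψ := rfl
  commutes' a := by
    ext m
    change ((algebraMap A (End E) a : E ⟶ E)).app U m = _
    rw [Algebra.algebraMap_eq_smul_one]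
    rfl

lemma act_apply (E : X.Modules) (U : X.Opens) (φ : End E) (m : SecM A E U) : act A E U φ m = φ.app U m := rfl

end act

variable {k l : Type u} [Field k] [Field l] [Algebra k l] {X X' : Scheme.{u}}
  [X.Over (Spec (CommRingCat.of k))] [X'.Over (Spec (CommRingCat.of l))] (π : X' ⟶ X)
  (sq : IsPullback π (X' ↘ Spec (CommRingCat.of l)) (X ↘ Spec (CommRingCat.of k))
    (Spec.map (CommRingCat.ofHom (algebraMap k l))))

include sq in
/-- The summands over the extension push forward to the module. -/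
theorem nonempty_iso_pushforward (E : X.Modules) (hE : Coh.IsQCoh E) (s : l →ₐ[k] End E) (σ : l ≃ₐ[k] l)
    (e : End ((Scheme.Modules.pullback π).obj E))
    (h2 : ∀ a : l, a • e = e * (show End ((Scheme.Modules.pullback π).obj E) from
      (Scheme.Modules.pullback π).map (s (σ.symm a))))
    (h3 : ∃ (J : Finset (l × l)), e = ∑ i ∈ J, i.1 • (show End ((Scheme.Modules.pullback π).obj E) from
      (Scheme.Modules.pullback π).map (s i.2)) ∧ ∑ i ∈ J, i.1 * σ i.2 = 1)
    (M : X'.Modules) (p : (Scheme.Modules.pullback π).obj E ⟶ M) (i : M ⟶ (Scheme.Modules.pullback π).obj E)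
    (hip : i ≫ p = 𝟙 M) (hpi : p ≫ i = e) :
    Nonempty (E ≅ (Scheme.Modules.pushforward π).obj M) := by
  let α : E ⟶ (Scheme.Modules.pushforward π).obj M :=
    (Scheme.Modules.pullbackPushforwardAdjunction π).homEquiv _ _ p
  have hα : ∀ (U : X.Opens) (v : Γ(E, U)), α.app U v = p.app (π ⁻¹ᵁ U) (ps π E U v) := by
    intro U v
    rw [ps_eq]
    change ((Scheme.Modules.pullbackPushforwardAdjunction π).homEquiv _ _ p).app U v = _
    rw [Adjunction.homEquiv_unit]
    rfl
  suffices h : IsIso α from ⟨asIso α⟩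
  refine CohqA.PullbackQCoh.isIso_of_bijective_basis α (fun U : X.affineOpens => (U : X.Opens)) ?_ ?_
  · rw [Subtype.range_coe_subtype]
    exact X.isBasis_affineOpens
  · rintro ⟨U, hU⟩
    let i1 : Module k (SecM l ((Scheme.Modules.pullback π).obj E) (π ⁻¹ᵁ U)) := modA _ _
    have i2 := isScalarTower_modA (A := k) (B := l) ((Scheme.Modules.pullback π).obj E) (π ⁻¹ᵁ U)
    have hpe : ∀ w : Γ((Scheme.Modules.pullback π).obj E, π ⁻¹ᵁ U),
        i.app (π ⁻¹ᵁ U) (p.app (π ⁻¹ᵁ U) w) = Scheme.Modules.Hom.app (show _ ⟶ _ from e) (π ⁻¹ᵁ U) w := by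
      intro w
      rw [← hpi]
      rfl
    have hip' : ∀ w : Γ(M, π ⁻¹ᵁ U), p.app (π ⁻¹ᵁ U) (i.app (π ⁻¹ᵁ U) w) = w := by
      intro w
      have h := congrArg (fun f => Scheme.Modules.Hom.app f (π ⁻¹ᵁ U)) hip
      exact congr($h w)
    obtain ⟨g, hg1, hg2⟩ := FDAlg.bijOn_idem (k := k) (l := l) (psL π sq E U) (isBaseChange_psL π sq E hE hU)
      ((act k E U).comp (s.comp (σ.symm : l →ₐ[k] l)))
      (Scheme.Modules.Hom.app (show _ ⟶ _ from e) (π ⁻¹ᵁ U)).hom
      (fun a w => Scheme.Modules.Hom.app_smul (show (Scheme.Modules.pullback π).obj E ⟶ _ from e) (sc l X' _ a) w)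
      (fun a v => by
        have h := congrArg (fun f : End ((Scheme.Modules.pullback π).obj E) =>
          Scheme.Modules.Hom.app (show _ ⟶ _ from f) (π ⁻¹ᵁ U) (ps π E U v)) (h2 a)
        refine Eq.trans h ?_
        change Scheme.Modules.Hom.app (show _ ⟶ _ from e) (π ⁻¹ᵁ U)
          (((Scheme.Modules.pullback π).map (s (σ.symm a))).app (π ⁻¹ᵁ U) (ps π E U v)) = _
        rw [map_ps]
        rfl)
      (by
        obtain ⟨J, hJ, hJ1⟩ := h3
        refine ⟨J, fun i => σ i.2, fun v => ?_, hJ1⟩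
        have h := congrArg (fun f : End ((Scheme.Modules.pullback π).obj E) =>
          Scheme.Modules.Hom.app (show _ ⟶ _ from f) (π ⁻¹ᵁ U) (ps π E U v)) hJ
        refine Eq.trans h ?_
        refine (sum_app J _ _ _).trans (Finset.sum_congr rfl fun j _ => ?_)
        refine (smul_app l j.1 _ _ _).trans ?_
        have h5 : ((Scheme.Modules.pullback π).map (s j.2)).app (π ⁻¹ᵁ U) (ps π E U v) =
            ps π E U (Scheme.Modules.Hom.app (show E ⟶ E from s j.2) U v) := map_ps π _ U v
        have h6 : σ.symm (σ j.2) = j.2 := σ.symm_apply_apply _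
        change _ = j.1 • psL π sq E U (Scheme.Modules.Hom.app (show E ⟶ E from s (σ.symm (σ j.2))) U v)
        rw [h6]
        change sc l X' (π ⁻¹ᵁ U) j.1 • ((Scheme.Modules.pullback π).map (s j.2)).app (π ⁻¹ᵁ U) (ps π E U v) = _
        rw [h5]
        rfl)
    have hg1' : ∀ v : Γ(E, U), g (Scheme.Modules.Hom.app (show _ ⟶ _ from e) (π ⁻¹ᵁ U) (ps π E U v)) = v := hg1
    have hg2' : ∀ w : Γ((Scheme.Modules.pullback π).obj E, π ⁻¹ᵁ U),
      Scheme.Modules.Hom.app (show _ ⟶ _ from e) (π ⁻¹ᵁ U) w =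
      Scheme.Modules.Hom.app (show _ ⟶ _ from e) (π ⁻¹ᵁ U) (ps π E U (g w)) := hg2
    constructor
    · intro v v' hv
      change α.app U v = α.app U v' at hv
      rw [hα, hα] at hv
      rw [← hg1' v, ← hg1' v', ← hpe, ← hpe, hv]
    · intro m
      refine ⟨g (i.app (π ⁻¹ᵁ U) m), ?_⟩
      change α.app U _ = m
      rw [hα]
      have h5 := hg2' (i.app (π ⁻¹ᵁ U) m)
      rw [← hpe, ← hpe, hip'] at h5
      have h6 := congrArg (p.app (π ⁻¹ᵁ U)) h5
      rw [hip', hip'] at h6
      exact h6.symm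

section main

variable (k) [Finite k] [IsProper (X ↘ Spec (CommRingCat.of k))] (E : X.Modules) (hE : Coh.IsCoh E)
  (hE0 : ¬ IsZero E) (hind : ∀ (E₁ E₂ : X.Modules), Nonempty (E ≅ E₁ ⊞ E₂) → IsZero E₁ ∨ IsZero E₂)

omit [Finite k] in
include hE in
theorem finite_end : Module.Finite k (End E) := K792.HomFin.finite_hom k E E hE hE

omit [Finite k] [IsProper (X ↘ Spec (CommRingCat.of k))] in
include hE0 in
theorem nontrivial_end : Nontrivial (End E) := by
  refine ⟨⟨0, 1, fun h => hE0 ?_⟩⟩
  rw [IsZero.iff_id_eq_zero]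
  exact h.symm

include hE hE0 hind in
/-- Decomposition of an indecomposable module over the extensions of a finite field. -/
theorem exists_decomp : ∃ d : ℕ, 0 < d ∧
    (d = 1 → ∀ (K : Type u) [Field K] [Algebra k K] (X' : Scheme.{u}) [X'.Over (Spec (CommRingCat.of K))]
      (π : X' ⟶ X) (_ : IsPullback π (X' ↘ Spec (CommRingCat.of K)) (X ↘ Spec (CommRingCat.of k))
        (Spec.map (CommRingCat.ofHom (algebraMap k K)))) (E₁ E₂ : X'.Modules), ¬ IsZero E₁ → ¬ IsZero E₂ →
        ¬ Nonempty ((Scheme.Modules.pullback π).obj E ≅ E₁ ⊞ E₂)) ∧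
    (∀ (l : Type u) [Field l] [Algebra k l], Module.finrank k l = d → ∀ (X' : Scheme.{u})
      [X'.Over (Spec (CommRingCat.of l))] (π : X' ⟶ X)
      (_ : IsPullback π (X' ↘ Spec (CommRingCat.of l)) (X ↘ Spec (CommRingCat.of k))
        (Spec.map (CommRingCat.ofHom (algebraMap k l)))),
      ∃ (M : Fin d → X'.Modules) (_ : Dec ((Scheme.Modules.pullback π).obj E) M),
        (∀ i j, i ≠ j → ¬ Nonempty (M i ≅ M j)) ∧
        (∀ i, Nonempty (E ≅ (Scheme.Modules.pushforward π).obj (M i)))) ∧
    (∀ (l : Type u) [Field l] [Algebra k l], Module.finrank k l = d → ∃ ρ : End E →ₐ[k] l,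
      Function.Surjective ρ) := by
  have h1 := finite_end k E hE
  have h2 := nontrivial_end E hE0
  obtain ⟨d, hd, H⟩ := FDAlg.exists_degree k (End E) (fun e he => FDCat.idem_of_indec hind e he)
  have : CompactSpace X := QuasiCompact.compactSpace_of_compactSpace (X ↘ Spec (CommRingCat.of k))
  refine ⟨d, hd, ?_, ?_, ?_⟩
  · rintro rfl K _ _ X' _ π sq E₁ E₂ hE₁ hE₂ ⟨i⟩
    obtain ⟨ρ, s, hρ, n, hn⟩ := H k (Module.finrank_self k)
    obtain ⟨e, he, he0, he1⟩ := FDCat.exists_idem_of_iso i hE₁ hE₂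
    let a1 : Algebra k (End ((Scheme.Modules.pullback π).obj E)) := algA (B := K) _
    have a2 := isScalarTower_end (A := k) (B := K) ((Scheme.Modules.pullback π).obj E)
    rcases FDAlg.idem_of_residue (mapEnd π sq E) (isBaseChange_mapEnd π sq E hE) ρ n hn e he with h | h
    · exact he0 h
    · exact he1 h
  · intro l _ _ hl X' _ π sq
    obtain ⟨ρ, s, hρ, n, hn⟩ := H l hl
    have : Module.Finite k l := Module.finite_of_finrank_pos (by rw [hl]; exact hd)
    have hfl : Finite l := Module.finite_of_finite k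
    have : IsGalois k l := inferInstance
    cases nonempty_fintype (l ≃ₐ[k] l)
    let a1 : Algebra k (End ((Scheme.Modules.pullback π).obj E)) := algA (B := l) _
    have a2 := isScalarTower_end (A := k) (B := l) ((Scheme.Modules.pullback π).obj E)
    obtain ⟨e, he, he2, he3, he4⟩ := FDAlg.exists_idem (mapEnd π sq E) s (isBaseChange_mapEnd π sq E hE) ρ hρ
    obtain ⟨L, D, hD⟩ := FDCat.exists_dec e he
    have hcard : Fintype.card (Fin d) = Fintype.card (l ≃ₐ[k] l) := by
      rw [Fintype.card_fin, ← hl, ← IsGalois.card_aut_eq_finrank k l, Nat.card_eq_fintype_card]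
    let r : Fin d ≃ (l ≃ₐ[k] l) := Fintype.equivOfCardEq hcard
    let D' : Dec ((Scheme.Modules.pullback π).obj E) (fun i => L (r i)) :=
      { ι := fun i => D.ι (r i)
        π := fun i => D.π (r i)
        ι_π_self := fun i => D.ι_π_self _
        ι_π_ne := fun i j h => D.ι_π_ne _ _ (fun h' => h (r.injective h'))
        sum := by rw [Equiv.sum_comp r (fun i => D.π i ≫ D.ι i), D.sum] }
    refine ⟨fun i => L (r i), D', ?_, ?_⟩
    · rintro i j hij ⟨a⟩
      obtain ⟨x, y, hx, hy⟩ := FDCat.exists_of_iso D (r i) (r j) a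
      rw [hD] at hx hy
      exact hij (r.injective (he4 _ _ x y hx hy))
    · intro i
      exact nonempty_iso_pushforward π sq E hE.1 s (r i) (e (r i)) (he2 (r i)) (he3 (r i)) (L (r i))
        (D.π (r i)) (D.ι (r i)) (D.ι_π_self _) (hD _)
  · intro l _ _ hl
    obtain ⟨ρ, s, hρ, -⟩ := H l hl
    exact ⟨ρ, fun x => ⟨s x, congr($hρ x)⟩⟩

end main

end K709.FinDesc
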