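import Groth.Agent.VBCurve.K707.Base
import Groth.Agent.VBCurve.K709.FinDesc
import Groth.Agent.Fdesc.LocGenPullback
import Groth.Agent.VarietyA.CurveFin
import Mathlib.RingTheory.Algebraic.Integral
import Groth.Agent.Krr.H482.PullLambda
import Mathlib.AlgebraicGeometry.Geometrically.Integral
import Mathlib.FieldTheory.Finite.Extension
import Mathlib.Algebra.Field.ULift
import Mathlib.Algebra.Module.ULift

/-!
# Ranks and finite extensions of the base field
-/

set_option autoImplicit false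
set_option backward.isDefEq.respectTransparency false
universe u
open CategoryTheory CategoryTheory.Limits AlgebraicGeometry Opposite TopologicalSpace

namespace K709.FDRank

open Groth.Agent K792.SecBC

variable {k l : Type u} [Field k] [Field l] [Algebra k l] {X X' : Scheme.{u}}
  [X.Over (Spec (CommRingCat.of k))] [X'.Over (Spec (CommRingCat.of l))] (π : X' ⟶ X)
  (sq : IsPullback π (X' ↘ Spec (CommRingCat.of l)) (X ↘ Spec (CommRingCat.of k))
    (Spec.map (CommRingCat.ofHom (algebraMap k l))))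

include sq in
/-- Functions on the base change. -/
theorem finrank_functions {U : X.Opens} (hU : IsAffineOpen U) [Module.Finite k l] :
    letI : Algebra Γ(X, U) Γ(X', π ⁻¹ᵁ U) := (π.app U).hom.toAlgebra
    Module.Free Γ(X, U) Γ(X', π ⁻¹ᵁ U) ∧ Module.Finite Γ(X, U) Γ(X', π ⁻¹ᵁ U) ∧
      (Nontrivial Γ(X, U) → Module.finrank Γ(X, U) Γ(X', π ⁻¹ᵁ U) = Module.finrank k l) := by
  let F := FnM k X U
  let F' := FnM l X' (π ⁻¹ᵁ U)
  let a1 : Algebra F F' := (π.app U).hom.toAlgebra
  let a2 : Algebra k F' := Algebra.compHom F' (algebraMap k l)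
  have t1 : IsScalarTower k l F' := .of_algebraMap_eq' rfl
  have t2 : IsScalarTower k F F' := .of_algebraMap_eq fun a => by
    have h := (appLE_sc π sq (U := U) (V := π ⁻¹ᵁ U) le_rfl a).symm
    rw [← Scheme.Hom.app_eq_appLE] at h
    exact h
  have key : Algebra.IsPushout k l F F' := by
    rw [← CommRingCat.isPushout_iff_isPushout]
    have h0 : π ⁻¹ᵁ U = π ⁻¹ᵁ U ⊓ (X' ↘ Spec (CommRingCat.of l)) ⁻¹ᵁ ⊤ := by simp
    have h1 := isIso_pushoutSection_of_isAffineOpen sq (US := ⊤) (UT := ⊤) (UX := U) (UY := π ⁻¹ᵁ U)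
      le_top le_top h0 (isAffineOpen_top _) (isAffineOpen_top _) hU
    have h2 := (isIso_pushoutSection_iff _ _ _ _).mp h1
    refine h2.flip.of_iso (Scheme.ΓSpecIso (CommRingCat.of k)) (Scheme.ΓSpecIso (CommRingCat.of l))
      (Iso.refl _) (Iso.refl _) ?_ ?_ ?_ ?_
    · have h3 : (Spec.map (CommRingCat.ofHom (algebraMap k l))).appTop =
          (Spec.map (CommRingCat.ofHom (algebraMap k l))).appLE ⊤ ⊤ le_top :=
        Scheme.Hom.app_eq_appLE _
      rw [← h3]
      exact Scheme.ΓSpecIso_naturality (CommRingCat.ofHom (algebraMap k l))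
    · rw [Iso.refl_hom, Category.comp_id, ← Iso.inv_comp_eq]
      rfl
    · rw [Iso.refl_hom, Category.comp_id, ← Iso.inv_comp_eq]
      rfl
    · rw [← Scheme.Hom.app_eq_appLE]
      rfl
  have hb := key.symm.out
  let e := hb.equiv
  have h1 : Module.Free F F' := Module.Free.of_equiv e
  have h2 : Module.Finite F F' := Module.Finite.equiv e
  refine ⟨h1, h2, fun hnt => ?_⟩
  have hnt' : Nontrivial F := hnt
  have h3 : Module.finrank F F' = Module.finrank k l := by
    rw [← e.finrank_eq, Module.finrank_baseChange]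
  exact h3

include sq in
theorem surjective_π : Function.Surjective π := by
  have h1 : Surjective (Spec.map (CommRingCat.ofHom (algebraMap k l))) := by
    refine ⟨fun x => ?_⟩
    refine ⟨default, ?_⟩
    have : Unique (PrimeSpectrum k) := inferInstance
    exact Subsingleton.elim (α := PrimeSpectrum k) _ _
  have h2 : Surjective π := MorphismProperty.of_isPullback sq.flip h1
  exact h2.1


open Groth.Agent.Sga67.LocBasis in
include sq in
/-- The rank of a push-forward along a finite extension of the base field. -/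
theorem mul_rank_eq [IsIntegral X] [IsIntegral X'] [Module.Finite k l] {E : X.Modules} {M : X'.Modules} {r r' : ℕ}
    (hE : FlatMod.IsFinLocFreeOfRank r E) (hM : FlatMod.IsFinLocFreeOfRank r' M)
    (a : E ≅ (Scheme.Modules.pushforward π).obj M) : Module.finrank k l * r' = r := by
  obtain ⟨V₂, hV₂, e₂⟩ := hE (genericPoint X)
  obtain ⟨V', hV', e'⟩ := hM (genericPoint X')
  obtain ⟨b, hb⟩ := nonempty_restrict_iso_iff.mp e₂
  obtain ⟨b', hb'⟩ := nonempty_restrict_iso_iff.mp e'
  obtain ⟨U, hU, hηU, hUV⟩ := Opens.isBasis_iff_nbhd.mp X.isBasis_affineOpens hV₂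
  have hU : IsAffineOpen U := hU
  obtain ⟨y, hy⟩ := surjective_π π sq (genericPoint X)
  have hηU' : genericPoint X' ∈ π ⁻¹ᵁ U := by
    have h1 : y ∈ π ⁻¹ᵁ U := by
      change π y ∈ U
      rw [hy]; exact hηU
    exact (genericPoint_specializes y).mem_open (π ⁻¹ᵁ U).2 h1
  have hU' := isAffineOpen_preimage π sq hU
  obtain ⟨f', hf'V, hf'⟩ := hU'.exists_basicOpen_le (V := V') ⟨genericPoint X', hV'⟩ hηU'
  obtain ⟨i1, i2, -⟩ := finrank_functions π sq hU
  let A1 : Algebra Γ(X, U) Γ(X', π ⁻¹ᵁ U) := (π.app U).hom.toAlgebra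
  have hneU : Nonempty U := ⟨⟨_, hηU⟩⟩
  have hneU' : Nonempty (π ⁻¹ᵁ U : X'.Opens) := ⟨⟨_, hηU'⟩⟩
  have d1 : IsDomain Γ(X, U) := inferInstance
  have d2 : IsDomain Γ(X', π ⁻¹ᵁ U) := inferInstance
  have hf'0 : f' ≠ 0 := by
    rintro rfl
    rw [Scheme.basicOpen_zero] at hf'
    exact hf'
  have hint : Algebra.IsIntegral Γ(X, U) Γ(X', π ⁻¹ᵁ U) := Algebra.IsIntegral.of_finite _ _
  obtain ⟨g, hg0, hg⟩ := (hint.isIntegral f').isAlgebraic.exists_nonzero_dvd
    (mem_nonZeroDivisors_of_ne_zero hf'0)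
  have hgf : X'.basicOpen (π.app U g) ≤ X'.basicOpen f' := by
    obtain ⟨c, hc⟩ := hg
    have hc' : π.app U g = f' * c := hc
    rw [hc', Scheme.basicOpen_mul]
    exact inf_le_left
  let W := X.basicOpen g
  have hW : IsAffineOpen W := hU.basicOpen g
  have hWU : W ≤ U := X.basicOpen_le g
  have hW' : π ⁻¹ᵁ W ≤ V' := by
    have h1 : π ⁻¹ᵁ W = X'.basicOpen (π.app U g) := Scheme.preimage_basicOpen π g
    rw [h1]
    exact hgf.trans hf'V
  have hWne : Nonempty W := by
    by_contra hne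
    apply hg0
    have h1 : W = ⊥ := by
      ext x
      constructor
      · intro hx
        exact (hne ⟨⟨x, hx⟩⟩).elim
      · intro hx
        exact hx.elim
    exact (basicOpen_eq_bot_iff g).mp h1
  obtain ⟨j1, j2, j3⟩ := finrank_functions π sq hW
  let A2 : Algebra Γ(X, W) Γ(X', π ⁻¹ᵁ W) := (π.app W).hom.toAlgebra
  have d3 : IsDomain Γ(X, W) := inferInstance
  have j3 := j3 inferInstance
  have hW'ne : Nonempty (π ⁻¹ᵁ W : X'.Opens) := by
    obtain ⟨⟨x, hx⟩⟩ := hWne
    obtain ⟨y, hy⟩ := surjective_π π sq x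
    exact ⟨⟨y, by change π y ∈ W; rw [hy]; exact hx⟩⟩
  have d4 : IsDomain Γ(X', π ⁻¹ᵁ W) := inferInstance
  let B := hb.basis (hWU.trans hUV)
  let B' := hb'.basis hW'
  let m1 : Module Γ(X, W) (Sga67.Sec.Sec M (π ⁻¹ᵁ W)) := Module.compHom _ (π.app W).hom
  have m2 : IsScalarTower Γ(X, W) Γ(X', π ⁻¹ᵁ W) (Sga67.Sec.Sec M (π ⁻¹ᵁ W)) :=
    ⟨fun x y z => by rw [Algebra.smul_def, mul_smul]; rfl⟩
  have m3 : Module.Free Γ(X', π ⁻¹ᵁ W) (Sga67.Sec.Sec M (π ⁻¹ᵁ W)) := Module.Free.of_basis B'
  let ε : Sga67.Sec.Sec E W ≃ₗ[Γ(X, W)] Sga67.Sec.Sec M (π ⁻¹ᵁ W) :=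
    { toFun := fun x => a.hom.app W x
      invFun := fun x => a.inv.app W x
      left_inv := fun x => by
        have h := congrArg (fun f => Scheme.Modules.Hom.app f W) a.hom_inv_id
        exact congr($h x)
      right_inv := fun x => by
        have h := congrArg (fun f => Scheme.Modules.Hom.app f W) a.inv_hom_id
        exact congr($h x)
      map_add' := fun x y => map_add (a.hom.app W).hom x y
      map_smul' := fun c x => Scheme.Modules.Hom.app_smul a.hom c x }
  have h1 : Module.finrank Γ(X, W) (Sga67.Sec.Sec E W) = r := by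
    rw [Module.finrank_eq_card_basis B, Fintype.card_fin]
  have h2 : Module.finrank Γ(X', π ⁻¹ᵁ W) (Sga67.Sec.Sec M (π ⁻¹ᵁ W)) = r' := by
    rw [Module.finrank_eq_card_basis B', Fintype.card_fin]
  have h3 := Module.finrank_mul_finrank Γ(X, W) Γ(X', π ⁻¹ᵁ W) (Sga67.Sec.Sec M (π ⁻¹ᵁ W))
  rw [← h1, ε.finrank_eq, ← h3, j3, h2]


section summand

open Groth.Agent.CycB.StalkExact K792.EndPow

variable {Y : Scheme.{u}} [IsLocallyNoetherian Y] {F : Y.Modules} {κ : Type} [Fintype κ] {M : κ → Y.Modules}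

theorem isCoh_of_dec (D : Dec F M) (hF : Coh.IsCoh F) (i : κ) : Coh.IsCoh (M i) := by
  have h0 : D.ι i ≫ (𝟙 F - D.π i ≫ D.ι i) = 0 := by
    rw [Preadditive.comp_sub, Category.comp_id, ← Category.assoc, D.ι_π_self, Category.id_comp, sub_self]
  have h1 : kernel.ι (𝟙 F - D.π i ≫ D.ι i) ≫ D.π i ≫ D.ι i = kernel.ι (𝟙 F - D.π i ≫ D.ι i) := by
    have h := kernel.condition (𝟙 F - D.π i ≫ D.ι i)
    rw [Preadditive.comp_sub, Category.comp_id, sub_eq_zero] at h
    exact h.symm
  let e : kernel (𝟙 F - D.π i ≫ D.ι i) ≅ M i :=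
    { hom := kernel.ι _ ≫ D.π i
      inv := kernel.lift _ (D.ι i) h0
      hom_inv_id := by
        rw [← cancel_mono (kernel.ι _), Category.assoc, Category.assoc, kernel.lift_ι, Category.id_comp, h1]
      inv_hom_id := by rw [kernel.lift_ι_assoc, D.ι_π_self] }
  exact PerfA.CohSerre.isCoh_of_iso e (Groth.Agent.CycB.CohProp.isCoh_kernel _ hF hF)

theorem isFinLocFreeOfRank_of_dec (D : Dec F M) [IrreducibleSpace Y] (hF : FlatMod.IsFinLocFree F) (i : κ) :
    FlatMod.IsFinLocFreeOfRank (Groth.Agent.VarietyA.DegRank.rk (M i)) (M i) := by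
  have hFr := K707.Base.isFinLocFreeOfRank_rk hF
  have hc := isCoh_of_dec D (K707.Base.isCoh_of_rank hFr) i
  refine K707.Base.isFinLocFreeOfRank_of_free_stalk hc fun x => ?_
  have h1 := K707.Base.free_stalk hFr x
  have h2 : (stalkLin (D.π i) x).comp (stalkLin (D.ι i) x) = LinearMap.id := by
    rw [← stalkLin_comp, D.ι_π_self, stalkLin_id]
  have h3 : Module.Projective (Y.presheaf.stalk x) ((M i).presheaf.stalk x) := Module.Projective.of_split _ _ h2
  have h4 := Groth.Agent.Divis.StalkMod.finite_stalk hc x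
  exact Module.free_of_flat_of_isLocalRing

end summand

section endomorphisms

attribute [local instance] Groth.Agent.CurvesC.LinMod.linearModules

variable (k) [IsProper (X ↘ Spec (CommRingCat.of k))] [GeometricallyIntegral (X ↘ Spec (CommRingCat.of k))]

include sq in
omit [IsProper (X ↘ Spec (CommRingCat.of k))] in
theorem isIntegral_bc : IsIntegral X' := by
  have h1 : GeometricallyIntegral (X' ↘ Spec (CommRingCat.of l)) :=
    MorphismProperty.of_isPullback sq inferInstance
  exact GeometricallyIntegral.isIntegral_of_subsingleton (X' ↘ Spec (CommRingCat.of l))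

/-- The endomorphism ring of an invertible module on a proper geometrically integral scheme is the ground
field. -/
theorem bijective_algebraMap_end {L : X.Modules} (hL : PicF.IsInvertible L) :
    Function.Bijective (algebraMap k (End L)) := by
  let B := AlgebraicClosure k
  let i1 : (Curv2.bc k X B).Over (Spec (CommRingCat.of B)) := ⟨Curv2.bcSnd k X B⟩
  have sq : IsPullback (Curv2.bcFst k X B) ((Curv2.bc k X B) ↘ Spec (CommRingCat.of B))
    (X ↘ Spec (CommRingCat.of k)) (Spec.map (CommRingCat.ofHom (algebraMap k B))) := IsPullback.of_hasPullback _ _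
  have hint : IsIntegral X := GeometricallyIntegral.isIntegral_of_subsingleton (X ↘ Spec (CommRingCat.of k))
  have hint' : IsIntegral (Curv2.bc k X B) := isIntegral_bc k _ sq
  have hpr : IsProper ((Curv2.bc k X B) ↘ Spec (CommRingCat.of B)) :=
    MorphismProperty.of_isPullback sq inferInstance
  have : CompactSpace X := QuasiCompact.compactSpace_of_compactSpace (X ↘ Spec (CommRingCat.of k))
  have : IsLocallyNoetherian X := LocallyOfFiniteType.isLocallyNoetherian (X ↘ Spec (CommRingCat.of k))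
  have hcoh : Coh.IsCoh L := VarietyA.CurveFin.isCoh_of_isInvertible hL
  let a1 : Algebra k (End ((Scheme.Modules.pullback (Curv2.bcFst k X B)).obj L)) :=
    K792.EndBC.algA (B := B) _
  have a2 := K792.EndBC.isScalarTower_end (A := k) (B := B)
    ((Scheme.Modules.pullback (Curv2.bcFst k X B)).obj L)
  have hb := K792.EndBC.isBaseChange_mapEnd (Curv2.bcFst k X B) sq L hcoh
  have hL' : PicF.IsInvertible ((Scheme.Modules.pullback (Curv2.bcFst k X B)).obj L) :=
    Fdesc.LocGen.isInvertible_pullback _ hL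
  have h1 := K792.EndLine.bijective_algebraMap_end B hL'
  have h2 : Module.finrank B (End ((Scheme.Modules.pullback (Curv2.bcFst k X B)).obj L)) = 1 := by
    rw [← Module.finrank_self B]
    exact (LinearEquiv.ofBijective (Algebra.linearMap B _) h1).finrank_eq.symm
  have h3 : Module.finrank k (End L) = 1 := by
    rw [← h2, ← hb.equiv.finrank_eq, Module.finrank_baseChange]
  have hnt : Nontrivial (End L) := ⟨⟨1, 0, fun h => K792.EndLine.not_isZero hL ((IsZero.iff_id_eq_zero L).2 h)⟩⟩
  exact ⟨FaithfulSMul.algebraMap_injective k (End L), fun φ => by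
    obtain ⟨c, hc⟩ := exists_smul_eq_of_finrank_eq_one h3 (one_ne_zero (α := End L)) φ
    exact ⟨c, by rw [Algebra.algebraMap_eq_smul_one, hc]⟩⟩

open K792.HomBC K792.EndPow in
include sq in
/-- If an invertible module is over an extension a direct summand of an indecomposable module `E`, then it is
isomorphic to `E`. -/
theorem nonempty_iso_of_retract_bc {E L : X.Modules} (hE : Coh.IsCoh E) (hL : PicF.IsInvertible L)
    (hind : ∀ (E₁ E₂ : X.Modules), Nonempty (E ≅ E₁ ⊞ E₂) → IsZero E₁ ∨ IsZero E₂)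
    (u : (Scheme.Modules.pullback π).obj L ⟶ (Scheme.Modules.pullback π).obj E)
    (v : (Scheme.Modules.pullback π).obj E ⟶ (Scheme.Modules.pullback π).obj L) (huv : u ≫ v = 𝟙 _) :
    Nonempty (E ≅ L) := by
  have hint : IsIntegral X := GeometricallyIntegral.isIntegral_of_subsingleton (X ↘ Spec (CommRingCat.of k))
  have hint' : IsIntegral X' := isIntegral_bc k π sq
  have : CompactSpace X := QuasiCompact.compactSpace_of_compactSpace (X ↘ Spec (CommRingCat.of k))
  have hLc : Coh.IsCoh L := VarietyA.CurveFin.isCoh_of_isInvertible hL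
  have hL' : PicF.IsInvertible ((Scheme.Modules.pullback π).obj L) := Fdesc.LocGen.isInvertible_pullback _ hL
  obtain ⟨ψ, φ, hne⟩ : ∃ (ψ : L ⟶ E) (φ : E ⟶ L), ψ ≫ φ ≠ 0 := by
    by_contra hcon
    push Not at hcon
    let i1 : Module k ((Scheme.Modules.pullback π).obj L ⟶ (Scheme.Modules.pullback π).obj E) :=
      homModA (B := l) _ _
    have i2 := isScalarTower_hom (A := k) (B := l) ((Scheme.Modules.pullback π).obj L)
      ((Scheme.Modules.pullback π).obj E)
    let j1 : Module k ((Scheme.Modules.pullback π).obj E ⟶ (Scheme.Modules.pullback π).obj L) :=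
      homModA (B := l) _ _
    have j2 := isScalarTower_hom (A := k) (B := l) ((Scheme.Modules.pullback π).obj E)
      ((Scheme.Modules.pullback π).obj L)
    have h1 : u ∈ Submodule.span l (Set.range (mapL π sq L E)) := by
      rw [span_range_of_isBaseChange _ (isBaseChange_mapL π sq L E hLc hE.1)]
      trivial
    have h2 : v ∈ Submodule.span l (Set.range (mapL π sq E L)) := by
      rw [span_range_of_isBaseChange _ (isBaseChange_mapL π sq E L hE hLc.1)]
      trivial
    have h3 : u ≫ v = 0 := by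
      clear huv
      induction h1 using Submodule.span_induction with
      | mem x hx =>
        obtain ⟨ψ, rfl⟩ := hx
        induction h2 using Submodule.span_induction with
        | mem y hy =>
          obtain ⟨φ, rfl⟩ := hy
          change (Scheme.Modules.pullback π).map ψ ≫ (Scheme.Modules.pullback π).map φ = 0
          rw [← Functor.map_comp, hcon, Functor.map_zero]
        | zero => rw [comp_zero]
        | add x y _ _ h1 h2 => rw [Preadditive.comp_add, h1, h2, add_zero]
        | smul c x _ h => rw [Linear.comp_smul, h, smul_zero]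
      | zero => rw [zero_comp]
      | add x y _ _ h1 h2 => rw [Preadditive.add_comp, h1, h2, add_zero]
      | smul c x _ h => rw [Linear.smul_comp, h, smul_zero]
    rw [huv] at h3
    exact K792.EndLine.not_isZero hL' ((IsZero.iff_id_eq_zero _).mpr h3)
  obtain ⟨c, hc⟩ := (bijective_algebraMap_end k hL).2 (ψ ≫ φ)
  have hc0 : c ≠ 0 := by
    rintro rfl
    rw [map_zero] at hc
    exact hne hc.symm
  have hc' : ψ ≫ φ = c • 𝟙 L := by rw [← hc, Algebra.algebraMap_eq_smul_one]; rfl
  have h1 : (c⁻¹ • ψ) ≫ φ = 𝟙 L := by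
    rw [Linear.smul_comp, hc', smul_smul, inv_mul_cancel₀ hc0, one_smul]
  have h2 : IsIdempotentElem (show End E from φ ≫ (c⁻¹ • ψ)) := by
    change (φ ≫ (c⁻¹ • ψ)) ≫ (φ ≫ (c⁻¹ • ψ)) = φ ≫ (c⁻¹ • ψ)
    rw [Category.assoc, ← Category.assoc (c⁻¹ • ψ), h1, Category.id_comp]
  rcases FDCat.idem_of_indec hind _ h2 with h | h
  · exfalso
    apply K792.EndLine.not_isZero hL
    rw [IsZero.iff_id_eq_zero]
    have h3 : (φ ≫ (c⁻¹ • ψ) : E ⟶ E) = 0 := h
    calc 𝟙 L = (c⁻¹ • ψ) ≫ φ := h1.symm
      _ = (c⁻¹ • ψ) ≫ (φ ≫ (c⁻¹ • ψ)) ≫ φ := by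
          rw [Category.assoc, h1, Category.comp_id, h1]
      _ = 0 := by rw [h3, zero_comp, comp_zero]
  · exact ⟨{ hom := φ, inv := c⁻¹ • ψ, hom_inv_id := h, inv_hom_id := h1 }⟩

end endomorphisms

theorem exists_field_of_degree (k : Type u) [Field k] [Finite k] (d : ℕ) (hd : 0 < d) :
    ∃ (l : Type u) (_ : Field l) (_ : Algebra k l), Module.finrank k l = d := by
  obtain ⟨p, hp⟩ := CharP.exists k
  have hpp : p.Prime := (CharP.char_is_prime_or_zero k p).resolve_right (by
    rintro rfl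
    have h0 : CharZero k := CharP.charP_to_charZero k
    have h1 : Infinite k := Infinite.of_injective (fun n : ℕ => (n : k)) Nat.cast_injective
    exact not_finite k)
  have : Fact p.Prime := ⟨hpp⟩
  have : NeZero d := ⟨hd.ne'⟩
  refine ⟨ULift.{u} (FiniteField.Extension k p d), inferInstance, inferInstance, ?_⟩
  rw [(ULift.moduleEquiv (R := k) (M := FiniteField.Extension k p d)).finrank_eq, FiniteField.finrank_extension]

attribute [local instance] Groth.Agent.CurvesC.LinMod.linearModules in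
open K792.EndPow in
/-- Decomposition over a finite extension of a locally free module which is indecomposable but not geometrically
indecomposable, over a finite field. -/
theorem exists_decomp (k : Type u) [Field k] [Finite k] (X : Scheme.{u}) [X.Over (Spec (CommRingCat.of k))]
    [IsProper (X ↘ Spec (CommRingCat.of k))] [GeometricallyIntegral (X ↘ Spec (CommRingCat.of k))]
    {r : ℕ} (E : X.Modules) (hE : FlatMod.IsFinLocFreeOfRank r E)
    (hind : (¬ IsZero E ∧ ∀ (E₁ E₂ : X.Modules), Nonempty (E ≅ E₁ ⊞ E₂) → IsZero E₁ ∨ IsZero E₂))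
    (hng : ∃ (K : Type u) (_ : Field K) (_ : Algebra k K) (E₁ E₂ : (Curv2.bc k X K).Modules),
      ¬ IsZero E₁ ∧ ¬ IsZero E₂ ∧ Nonempty ((Scheme.Modules.pullback (Curv2.bcFst k X K)).obj E ≅ E₁ ⊞ E₂)) :
    ∃ d s : ℕ, 2 ≤ d ∧ d * s = r ∧ ∀ (l : Type u) [Field l] [Algebra k l], Module.finrank k l = d →
      ∃ (M : Fin d → (Curv2.bc k X l).Modules)
        (_ : Dec ((Scheme.Modules.pullback (Curv2.bcFst k X l)).obj E) M),
        (∀ i, FlatMod.IsFinLocFreeOfRank s (M i)) ∧ (∀ i j, i ≠ j → ¬ Nonempty (M i ≅ M j)) ∧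
        (∀ i, Nonempty (E ≅ (Scheme.Modules.pushforward (Curv2.bcFst k X l)).obj (M i))) ∧
        (∀ i (L : X.Modules), PicF.IsInvertible L →
          ¬ Nonempty (M i ≅ (Scheme.Modules.pullback (Curv2.bcFst k X l)).obj L)) ∧
        ∃ ρ : End E →+* l, Function.Surjective ρ := by
  obtain ⟨hE0, hi⟩ := hind
  have hint : IsIntegral X := GeometricallyIntegral.isIntegral_of_subsingleton (X ↘ Spec (CommRingCat.of k))
  have hEc : Coh.IsCoh E := K707.Base.isCoh_of_rank hE
  obtain ⟨d, hd0, hd1, hd, hρ⟩ := FinDesc.exists_decomp k E hEc hE0 hi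
  have hd2 : 2 ≤ d := by
    by_contra hcon
    obtain rfl : d = 1 := by omega
    obtain ⟨K, _, _, E₁, E₂, h1, h2, h3⟩ := hng
    let i1 : (Curv2.bc k X K).Over (Spec (CommRingCat.of K)) := ⟨Curv2.bcSnd k X K⟩
    exact hd1 rfl K (Curv2.bc k X K) (Curv2.bcFst k X K) (IsPullback.of_hasPullback _ _) E₁ E₂ h1 h2 h3
  have key : ∀ (l : Type u) [Field l] [Algebra k l], Module.finrank k l = d →
      ∃ (M : Fin d → (Curv2.bc k X l).Modules)
        (_ : Dec ((Scheme.Modules.pullback (Curv2.bcFst k X l)).obj E) M),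
        (∀ i, ∃ s, FlatMod.IsFinLocFreeOfRank s (M i) ∧ d * s = r) ∧ (∀ i j, i ≠ j → ¬ Nonempty (M i ≅ M j)) ∧
        (∀ i, Nonempty (E ≅ (Scheme.Modules.pushforward (Curv2.bcFst k X l)).obj (M i))) := by
    intro l _ _ hl
    let i1 : (Curv2.bc k X l).Over (Spec (CommRingCat.of l)) := ⟨Curv2.bcSnd k X l⟩
    have sq : IsPullback (Curv2.bcFst k X l) ((Curv2.bc k X l) ↘ Spec (CommRingCat.of l))
      (X ↘ Spec (CommRingCat.of k)) (Spec.map (CommRingCat.ofHom (algebraMap k l))) := IsPullback.of_hasPullback _ _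
    have : Module.Finite k l := Module.finite_of_finrank_pos (by rw [hl]; exact hd0)
    have hint' : IsIntegral (Curv2.bc k X l) := isIntegral_bc k _ sq
    have hpr : IsProper ((Curv2.bc k X l) ↘ Spec (CommRingCat.of l)) := MorphismProperty.of_isPullback sq inferInstance
    have hln : IsLocallyNoetherian (Curv2.bc k X l) :=
      LocallyOfFiniteType.isLocallyNoetherian ((Curv2.bc k X l) ↘ Spec (CommRingCat.of l))
    obtain ⟨M, D, h1, h2⟩ := hd l hl (Curv2.bc k X l) (Curv2.bcFst k X l) sq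
    refine ⟨M, D, fun i => ?_, h1, h2⟩
    have hπE : FlatMod.IsFinLocFree ((Scheme.Modules.pullback (Curv2.bcFst k X l)).obj E) :=
      Krr.H482.PullLambda.isFinLocFree_pullback _ (K707.Base.isFinLocFree_of_rank hE)
    have h3 := isFinLocFreeOfRank_of_dec D hπE i
    obtain ⟨a⟩ := h2 i
    exact ⟨_, h3, by rw [← hl]; exact mul_rank_eq _ sq hE h3 a⟩
  have hr0 : ∀ s, d * s = r → r / d = s := fun s h => by
    rw [← h, Nat.mul_div_cancel_left _ (by omega)]
  have hdr : d * (r / d) = r := by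
    obtain ⟨l, _, _, hl⟩ := exists_field_of_degree k d hd0
    obtain ⟨M, D, h1, -⟩ := key l hl
    obtain ⟨s, -, hs⟩ := h1 ⟨0, by omega⟩
    rw [hr0 s hs, hs]
  refine ⟨d, r / d, hd2, hdr, fun l _ _ hl => ?_⟩
  let i1 : (Curv2.bc k X l).Over (Spec (CommRingCat.of l)) := ⟨Curv2.bcSnd k X l⟩
  have sq : IsPullback (Curv2.bcFst k X l) ((Curv2.bc k X l) ↘ Spec (CommRingCat.of l))
    (X ↘ Spec (CommRingCat.of k)) (Spec.map (CommRingCat.ofHom (algebraMap k l))) := IsPullback.of_hasPullback _ _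
  have hint' : IsIntegral (Curv2.bc k X l) := isIntegral_bc k _ sq
  obtain ⟨M, D, h1, h2, h3⟩ := key l hl
  have h1' : ∀ i, FlatMod.IsFinLocFreeOfRank (r / d) (M i) := fun i => by
    obtain ⟨s, hs, hs'⟩ := h1 i
    rw [hr0 s hs']
    exact hs
  refine ⟨M, D, h1', h2, h3, ?_, ?_⟩
  · rintro i L hL ⟨a⟩
    obtain ⟨b⟩ := nonempty_iso_of_retract_bc k _ sq hEc hL hi (a.inv ≫ D.ι i) (D.π i ≫ a.hom) (by
      rw [Category.assoc, ← Category.assoc (D.ι i), D.ι_π_self, Category.id_comp, a.inv_hom_id])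
    have e1 : r = 1 := by
      rw [← K707.Base.rk_of_rank hE, Groth.Agent.VarietyA.DegRank.rk_iso b]
      exact K707.Base.rk_of_rank (Groth.Agent.Ega2.QCohLocal.isFinLocFreeOfRank_one_iff.mpr hL)
    rw [e1] at hdr
    have := Nat.eq_one_of_mul_eq_one_right hdr
    omega
  · obtain ⟨ρ, hρ'⟩ := hρ l hl
    exact ⟨ρ.toRingHom, hρ'⟩

end K709.FDRank
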