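import Groth.Agent.VBCurve.K709.FDRank
import Groth.Agent.Sga3C.DimTop
import Groth.Agent.S1521

/-!
# Counting homomorphisms on curves over finite fields
-/

set_option autoImplicit false
set_option backward.isDefEq.respectTransparency false
universe u
open CategoryTheory CategoryTheory.Limits AlgebraicGeometry Opposite TopologicalSpace

namespace K709.G1

open Groth.Agent K792.EndPow

/-- A base change of curves. -/
structure BC (k l : Type u) [Field k] [Field l] [Algebra k l] (X X' : Scheme.{u}) [X.Over (Spec (CommRingCat.of k))]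
    [X'.Over (Spec (CommRingCat.of l))] (π : X' ⟶ X) : Prop where
  integral : IsIntegral X'
  proper : IsProper (X' ↘ Spec (CommRingCat.of l))
  geom : GeometricallyIntegral (X' ↘ Spec (CommRingCat.of l))
  dim : topologicalKrullDim X' = 1

/-- Over instance for `bc`. -/
noncomputable abbrev overBc (k : Type u) [Field k] (X : Scheme.{u}) [X.Over (Spec (CommRingCat.of k))]
    (l : Type u) [Field l] [Algebra k l] : (Curv2.bc k X l).Over (Spec (CommRingCat.of l)) := ⟨Curv2.bcSnd k X l⟩

theorem sqBc (k : Type u) [Field k] (X : Scheme.{u}) [X.Over (Spec (CommRingCat.of k))]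
    (l : Type u) [Field l] [Algebra k l] :
    letI := overBc k X l
    IsPullback (Curv2.bcFst k X l) ((Curv2.bc k X l) ↘ Spec (CommRingCat.of l))
      (X ↘ Spec (CommRingCat.of k)) (Spec.map (CommRingCat.ofHom (algebraMap k l))) := IsPullback.of_hasPullback _ _

theorem bc_finite (k : Type u) [Field k] (X : Scheme.{u}) [X.Over (Spec (CommRingCat.of k))]
    [IsProper (X ↘ Spec (CommRingCat.of k))] [GeometricallyIntegral (X ↘ Spec (CommRingCat.of k))]
    (hdim : topologicalKrullDim X = 1) (l : Type u) [Field l] [Algebra k l] [Module.Finite k l] :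
    letI := overBc k X l
    BC k l X (Curv2.bc k X l) (Curv2.bcFst k X l) := by
  let _ := overBc k X l
  have sq := sqBc k X l
  refine ⟨FDRank.isIntegral_bc k _ sq, MorphismProperty.of_isPullback sq inferInstance,
    MorphismProperty.of_isPullback sq inferInstance, ?_⟩
  have h1 : IsIntegralHom (Spec.map (CommRingCat.ofHom (algebraMap k l))) := by
    rw [IsIntegralHom.SpecMap_iff]
    exact algebraMap_isIntegral_iff.mpr inferInstance
  have h2 : IsIntegralHom (Curv2.bcFst k X l) := MorphismProperty.of_isPullback sq.flip h1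
  have h3 : Surjective (Curv2.bcFst k X l) := ⟨FDRank.surjective_π _ sq⟩
  rw [Sga3C.DimTop.topologicalKrullDim_eq_of_isIntegralHom (Curv2.bcFst k X l), hdim]

section curve

variable (k : Type u) [Field k] {X : Scheme.{u}} [X.Over (Spec (CommRingCat.of k))]
    [IsProper (X ↘ Spec (CommRingCat.of k))] [IsIntegral X] (hdim : topologicalKrullDim X = 1)

include hdim in
/-- Homs to an invertible module of smaller or equal degree vanish unless there is an isomorphism. -/
theorem hom_eq_zero {L L' : X.Modules} (hL : PicF.IsInvertible L) (hL' : PicF.IsInvertible L')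
    (h : Curv2.deg k X L' 1 ≤ Curv2.deg k X L 1) (hne : ¬ Nonempty (L ≅ L')) (φ : L ⟶ L') : φ = 0 := by
  by_contra hφ
  obtain ⟨h1, h2⟩ := S1521.result k X hdim L L' hL hL' φ hφ
  have := h2 (le_antisymm h1 h)
  exact hne ⟨asIso φ⟩

omit [IsIntegral X] in
attribute [local instance] Groth.Agent.CurvesC.LinMod.linearModules in
theorem nonempty_ringEquiv_end [GeometricallyIntegral (X ↘ Spec (CommRingCat.of k))] {L : X.Modules}
    (hL : PicF.IsInvertible L) : Nonempty (k ≃+* End L) :=
  ⟨RingEquiv.ofBijective (algebraMap k (End L)) (FDRank.bijective_algebraMap_end k hL)⟩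

omit [IsIntegral X] in
theorem card_end [GeometricallyIntegral (X ↘ Spec (CommRingCat.of k))] {L : X.Modules}
    (hL : PicF.IsInvertible L) : Nat.card (L ⟶ L) = Nat.card k :=
  (Nat.card_congr (Equiv.ofBijective _ (FDRank.bijective_algebraMap_end k hL))).symm

end curve

section cat

universe v w
variable {C : Type w} [Category.{v} C] [Preadditive C] {E : C} {κ : Type} [Fintype κ] {M : κ → C}

/-- If `Hom(M a, N) = 0` for `a ≠ j` then `Hom(E, N) = Hom(M j, N)`. -/
noncomputable def homEquivOfDec (D : Dec E M) (j : κ) {N : C} (h : ∀ a, a ≠ j → ∀ φ : M a ⟶ N, φ = 0) :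
    (E ⟶ N) ≃ (M j ⟶ N) where
  toFun φ := D.ι j ≫ φ
  invFun ψ := D.π j ≫ ψ
  left_inv φ := by
    change D.π j ≫ D.ι j ≫ φ = φ
    have h1 : (∑ i, D.π i ≫ D.ι i) ≫ φ = φ := by rw [D.sum, Category.id_comp]
    conv_rhs => rw [← h1]
    rw [Preadditive.sum_comp, Finset.sum_eq_single j]
    · rw [Category.assoc]
    · intro a _ ha
      rw [Category.assoc, h a ha (D.ι a ≫ φ), comp_zero]
    · intro hj; exact absurd (Finset.mem_univ _) hj
  right_inv ψ := by
    change D.ι j ≫ D.π j ≫ ψ = ψ
    rw [← Category.assoc, D.ι_π_self, Category.id_comp]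

end cat

theorem nonempty_ringEquiv_of_decomp (k : Type u) [Field k] [Finite k] (X : Scheme.{u})
    [X.Over (Spec (CommRingCat.of k))] [IsProper (X ↘ Spec (CommRingCat.of k))]
    [GeometricallyIntegral (X ↘ Spec (CommRingCat.of k))]
    (hdim : topologicalKrullDim X = 1) {E : X.Modules} {d : ℕ} (hd : 0 < d) (l : Type u) [Field l] [Algebra k l]
    (hl : Module.finrank k l = d) (M : Fin d → (Curv2.bc k X l).Modules)
    (D : Dec ((Scheme.Modules.pullback (Curv2.bcFst k X l)).obj E) M)
    (hM : ∀ i, FlatMod.IsFinLocFreeOfRank 1 (M i)) (hne : ∀ i j, i ≠ j → ¬ Nonempty (M i ≅ M j))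
    (hpush : ∀ i, Nonempty (E ≅ (Scheme.Modules.pushforward (Curv2.bcFst k X l)).obj (M i)))
    (ρ : End E →+* l) (hρ : Function.Surjective ρ) : Nonempty (End E ≃+* l) := by
  have hfin : Module.Finite k l := Module.finite_of_finrank_pos (by omega)
  have hfin3 : Finite l := Module.finite_of_finite k
  let i1 := overBc k X l
  obtain ⟨c1, c2, c3, c4⟩ := bc_finite k X hdim l
  have hMi : ∀ i, PicF.IsInvertible (M i) := fun i => Groth.Agent.Ega2.QCohLocal.isFinLocFreeOfRank_one_iff.mp (hM i)
  have : Nonempty (Fin d) := ⟨⟨0, hd⟩⟩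
  obtain ⟨j, hj⟩ := Finite.exists_min (fun i => Curv2.deg l (Curv2.bc k X l) (M i) 1)
  have h0 : ∀ a, a ≠ j → ∀ φ : M a ⟶ M j, φ = 0 := fun a ha φ =>
    hom_eq_zero l c4 (hMi a) (hMi j) (hj a) (hne a j ha) φ
  obtain ⟨a⟩ := hpush j
  have e1 : (E ⟶ E) ≃ (M j ⟶ M j) :=
    (a.homToEquiv).trans (((Scheme.Modules.pullbackPushforwardAdjunction (Curv2.bcFst k X l)).homEquiv E (M j)).symm.trans
      (homEquivOfDec D j h0))
  have e2 : Nat.card (End E) = Nat.card l := by
    have h1 := Nat.card_congr e1
    rw [card_end l (hMi j)] at h1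
    exact h1
  have hfE : Finite (End E) := by
    apply Nat.finite_of_card_ne_zero
    rw [e2]
    exact Nat.card_pos.ne'
  have hbij : Function.Bijective ρ := (Nat.bijective_iff_surjective_and_card ρ).mpr ⟨hρ, e2⟩
  exact ⟨RingEquiv.ofBijective ρ hbij⟩

end K709.G1
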