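import Groth.Agent.ASBun.K792.EndPow
import Mathlib.LinearAlgebra.Matrix.GeneralLinearGroup.Card
import Mathlib.CategoryTheory.Preadditive.Biproducts
import Mathlib.CategoryTheory.Endomorphism

/-!
# Counting automorphisms of direct sums
-/

set_option autoImplicit false
universe v u

open CategoryTheory CategoryTheory.Limits K792.EndPow

namespace K709.AutCount

variable {C : Type u} [Category.{v} C] [Preadditive C]

section biprod

variable [HasBinaryBiproducts C] {A B : C}

/-- Automorphisms of `A ⊞ B` when there are no non-zero maps between `A` and `B`. -/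
noncomputable def autBiprodEquiv (h₁ : ∀ f : A ⟶ B, f = 0) (h₂ : ∀ f : B ⟶ A, f = 0) :
    Aut (A ⊞ B) ≃ Aut A × Aut B where
  toFun φ :=
    ({ hom := biprod.inl ≫ φ.hom ≫ biprod.fst
       inv := biprod.inl ≫ φ.inv ≫ biprod.fst
       hom_inv_id := by
        have h3 : biprod.inl ≫ φ.hom = (biprod.inl ≫ φ.hom ≫ biprod.fst) ≫ biprod.inl := by
          apply biprod.hom_ext
          · simp
          · simp [h₁ (biprod.inl ≫ φ.hom ≫ biprod.snd)]
        rw [← Category.assoc _ biprod.inl, ← h3]
        simp
       inv_hom_id := by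
        have h3 : biprod.inl ≫ φ.inv = (biprod.inl ≫ φ.inv ≫ biprod.fst) ≫ biprod.inl := by
          apply biprod.hom_ext
          · simp
          · simp [h₁ (biprod.inl ≫ φ.inv ≫ biprod.snd)]
        rw [← Category.assoc _ biprod.inl, ← h3]
        simp },
     { hom := biprod.inr ≫ φ.hom ≫ biprod.snd
       inv := biprod.inr ≫ φ.inv ≫ biprod.snd
       hom_inv_id := by
        have h3 : biprod.inr ≫ φ.hom = (biprod.inr ≫ φ.hom ≫ biprod.snd) ≫ biprod.inr := by
          apply biprod.hom_ext
          · simp [h₂ (biprod.inr ≫ φ.hom ≫ biprod.fst)]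
          · simp
        rw [← Category.assoc _ biprod.inr, ← h3]
        simp
       inv_hom_id := by
        have h3 : biprod.inr ≫ φ.inv = (biprod.inr ≫ φ.inv ≫ biprod.snd) ≫ biprod.inr := by
          apply biprod.hom_ext
          · simp [h₂ (biprod.inr ≫ φ.inv ≫ biprod.fst)]
          · simp
        rw [← Category.assoc _ biprod.inr, ← h3]
        simp })
  invFun p := biprod.mapIso p.1 p.2
  left_inv φ := by
    ext
    · simp
    · simp [h₁ (biprod.inl ≫ φ.hom ≫ biprod.snd)]
    · simp [h₂ (biprod.inr ≫ φ.hom ≫ biprod.fst)]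
    · simp
  right_inv p := by
    ext
    · simp
    · simp

theorem card_aut_biprod (h₁ : ∀ f : A ⟶ B, f = 0) (h₂ : ∀ f : B ⟶ A, f = 0) :
    Nat.card (Aut (A ⊞ B)) = Nat.card (Aut A) * Nat.card (Aut B) := by
  rw [Nat.card_congr (autBiprodEquiv h₁ h₂), Nat.card_prod]

end biprod

omit [Preadditive C] in
theorem card_aut_iso {A B : C} (e : A ≅ B) : Nat.card (Aut A) = Nat.card (Aut B) :=
  Nat.card_congr
    { toFun := fun φ => e.symm ≪≫ φ ≪≫ e
      invFun := fun φ => e ≪≫ φ ≪≫ e.symm
      left_inv := fun φ => by ext; simp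
      right_inv := fun φ => by ext; simp }

theorem card_aut_of_ringEquiv {A : C} {R : Type*} [Ring R] (e : End A ≃+* R) : Nat.card (Aut A) = Nat.card Rˣ :=
  Nat.card_congr ((Aut.unitsEndEquivAut A).symm.trans (Units.mapEquiv e.toMulEquiv)).toEquiv

/-- Automorphisms of a power of an object with endomorphism ring a finite field. -/
theorem card_aut_pow (k : Type*) [Field k] [Finite k] {E L : C} {n : ℕ} (D : Dec E (fun _ : Fin n => L))
    (e : k ≃+* End L) : Nat.card (Aut E) = ∏ i : Fin n, (Nat.card k ^ n - Nat.card k ^ (i : ℕ)) := by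
  cases nonempty_fintype k
  let e1 : End E ≃+* Matrix (Fin n) (Fin n) k := D.endRingEquiv.trans e.symm.mapMatrix
  rw [card_aut_of_ringEquiv e1]
  have h := Matrix.card_GL_field (𝔽 := k) (n := n)
  rw [Nat.card_eq_fintype_card (α := k)]
  exact h

/-- The trivial decomposition of a biproduct with itself. -/
noncomputable def decTwo [HasBinaryBiproducts C] (L : C) : Dec (L ⊞ L) (fun _ : Fin 2 => L) where
  ι i := if i = 0 then biprod.inl else biprod.inr
  π i := if i = 0 then biprod.fst else biprod.snd
  ι_π_self i := by split_ifs <;> simp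
  ι_π_ne i j h := by
    fin_cases i <;> fin_cases j <;> simp at h ⊢
  sum := by
    rw [Fin.sum_univ_two]
    simp

noncomputable def decThree [HasBinaryBiproducts C] (L : C) : Dec (L ⊞ L ⊞ L) (fun _ : Fin 3 => L) where
  ι i := if i = 0 then biprod.inl else if i = 1 then biprod.inl ≫ biprod.inr else biprod.inr ≫ biprod.inr
  π i := if i = 0 then biprod.fst else if i = 1 then biprod.snd ≫ biprod.fst else biprod.snd ≫ biprod.snd
  ι_π_self i := by fin_cases i <;> simp
  ι_π_ne i j h := by
    fin_cases i <;> fin_cases j <;> simp at h ⊢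
  sum := by
    have h : biprod.fst ≫ biprod.inl + (biprod.snd ≫ (biprod.fst ≫ biprod.inl + biprod.snd ≫ biprod.inr) ≫
        biprod.inr) = 𝟙 (L ⊞ L ⊞ L) := by
      rw [biprod.total, Category.id_comp, biprod.total]
    simp only [Preadditive.add_comp, Preadditive.comp_add, Category.assoc, ← add_assoc] at h
    rw [Fin.sum_univ_three]
    simpa using h

section counting

variable [HasBinaryBiproducts C] (k : Type*) [Field k] [Finite k] {L : C} (e : k ≃+* End L)

omit [HasBinaryBiproducts C] [Finite k] in
include e in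
theorem card_aut_one : Nat.card (Aut L) = Nat.card k - 1 := by
  rw [card_aut_of_ringEquiv e.symm, Nat.card_units]

include e in
theorem card_aut_two : Nat.card (Aut (L ⊞ L)) = (Nat.card k ^ 2 - 1) * (Nat.card k ^ 2 - Nat.card k) := by
  rw [card_aut_pow k (decTwo L) e, Fin.prod_univ_two]
  simp

include e in
theorem card_aut_three : Nat.card (Aut (L ⊞ L ⊞ L)) =
    (Nat.card k ^ 3 - 1) * (Nat.card k ^ 3 - Nat.card k) * (Nat.card k ^ 3 - Nat.card k ^ 2) := by
  rw [card_aut_pow k (decThree L) e, Fin.prod_univ_three]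
  simp

end counting

end K709.AutCount
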