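import Groth.Agent.VBCurve.K709.G1
import Groth.Agent.VBCurve.K707.Semi
import Groth.Agent.CurvesB.VABaseChange

/-!
# Stability of indecomposable rank two modules of degree zero which split over an extension
-/

set_option autoImplicit false
set_option backward.isDefEq.respectTransparency false
universe u
open CategoryTheory CategoryTheory.Limits AlgebraicGeometry Opposite TopologicalSpace

namespace K709.G1Deg

open Groth.Agent K792.EndPow K707.Base K707.Deg K707.Slope K707.Semi Groth.Agent.VarietyA.DegRank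

section dec

variable (k : Type u) [Field k] {X : Scheme.{u}} [X.Over (Spec (CommRingCat.of k))]
    [IsProper (X ↘ Spec (CommRingCat.of k))] [IsIntegral X]

theorem dg_dec_two {F : X.Modules} {M : Fin 2 → X.Modules} (D : Dec F M) (hF : Coh.IsCoh F) :
    dg k F = dg k (M 0) + dg k (M 1) := by
  have : IsLocallyNoetherian X := LocallyOfFiniteType.isLocallyNoetherian (X ↘ Spec (CommRingCat.of k))
  have h0 := FDRank.isCoh_of_dec D hF 0
  have h1 := FDRank.isCoh_of_dec D hF 1
  let S : ShortComplex X.Modules := ShortComplex.mk (D.ι 0) (D.π 1) (D.ι_π_ne 0 1 (by decide))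
  have sp : S.Splitting :=
    { r := D.π 0
      s := D.ι 1
      f_r := D.ι_π_self 0
      s_g := D.ι_π_self 1
      id := by
        have := D.sum
        rw [Fin.sum_univ_two] at this
        exact this }
  exact dg_add k S sp.shortExact h0 hF h1

end dec

variable {k : Type u} [Field k] {X : Scheme.{u}} [X.Over (Spec (CommRingCat.of k))]
    [IsProper (X ↘ Spec (CommRingCat.of k))] [IsIntegral X]
    [GeometricallyIntegral (X ↘ Spec (CommRingCat.of k))] (hdim : topologicalKrullDim X = 1)
    {G : X.Modules} (hG : FlatMod.IsFinLocFreeOfRank 2 G) (hdeg : Curv2.deg k X G 2 = 0)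
    (l : Type u) [Field l] [Algebra k l] [Module.Finite k l] (M : Fin 2 → (Curv2.bc k X l).Modules)
    (D : Dec ((Scheme.Modules.pullback (Curv2.bcFst k X l)).obj G) M)
    (hM : ∀ i, FlatMod.IsFinLocFreeOfRank 1 (M i)) (hne : ¬ Nonempty (M 0 ≅ M 1))
    (hpush : ∀ i, Nonempty (G ≅ (Scheme.Modules.pushforward (Curv2.bcFst k X l)).obj (M i)))

include hdim hG hdeg D hM hne hpush in
theorem stable : St k G := by
  let i1 := G1.overBc k X l
  have sq := G1.sqBc k X l
  obtain ⟨c1, c2, c3, c4⟩ := G1.bc_finite k X hdim l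
  have hMi : ∀ i, PicF.IsInvertible (M i) := fun i =>
    Groth.Agent.Ega2.QCohLocal.isFinLocFreeOfRank_one_iff.mp (hM i)
  have hGc := isCoh_of_rank hG
  have hπG : FlatMod.IsFinLocFreeOfRank 2 ((Scheme.Modules.pullback (Curv2.bcFst k X l)).obj G) :=
    Krr.H482.PullLambda.isFinLocFreeOfRank_pullback _ hG
  have hsum : Curv2.deg l (Curv2.bc k X l) (M 0) 1 + Curv2.deg l (Curv2.bc k X l) (M 1) 1 = 0 := by
    rw [← dg_of_rank l (hM 0), ← dg_of_rank l (hM 1), ← dg_dec_two l D (isCoh_of_rank hπG), dg_of_rank l hπG,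
      CurvesB.VABaseChange.deg_eq sq G hGc.1, hdeg]
  intro F j hj hF h0 h1
  have hG2 : rk G = 2 := rk_of_rank hG
  have hF1 : rk F = 1 := by omega
  have hFr : FlatMod.IsFinLocFreeOfRank 1 F := by
    have := isFinLocFreeOfRank_rk hF
    rwa [hF1] at this
  have hFi : PicF.IsInvertible F := Groth.Agent.Ega2.QCohLocal.isFinLocFreeOfRank_one_iff.mp hFr
  rw [dg_of_rank k hG, hdeg, dg_of_rank k hFr, hF1, hG2]
  have hj0 : j ≠ 0 := by
    rintro rfl
    apply K792.EndLine.not_isZero hFi
    rw [IsZero.iff_id_eq_zero, ← cancel_mono (0 : F ⟶ G), comp_zero, comp_zero]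
  have hFπ := Fdesc.LocGen.isInvertible_pullback (Curv2.bcFst k X l) hFi
  have key : ∀ i, Curv2.deg k X F 1 ≤ Curv2.deg l (Curv2.bc k X l) (M i) 1 ∧
      (Curv2.deg k X F 1 = Curv2.deg l (Curv2.bc k X l) (M i) 1 →
        Nonempty ((Scheme.Modules.pullback (Curv2.bcFst k X l)).obj F ≅ M i)) := by
    intro i
    obtain ⟨a⟩ := hpush i
    let φ : (Scheme.Modules.pullback (Curv2.bcFst k X l)).obj F ⟶ M i :=
      ((Scheme.Modules.pullbackPushforwardAdjunction (Curv2.bcFst k X l)).homEquiv F (M i)).symm (j ≫ a.hom)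
    have hφ : φ ≠ 0 := by
      intro h
      have h2 : j ≫ a.hom = 0 := by
        have h3 := ((Scheme.Modules.pullbackPushforwardAdjunction (Curv2.bcFst k X l)).homEquiv F (M i)).apply_symm_apply
          (j ≫ a.hom)
        rw [← h3]
        change ((Scheme.Modules.pullbackPushforwardAdjunction (Curv2.bcFst k X l)).homEquiv F (M i)) φ = 0
        rw [h, Adjunction.homEquiv_unit, Functor.map_zero, comp_zero]
      apply hj0
      rw [← cancel_mono a.hom, h2, zero_comp]
    obtain ⟨h1, h2⟩ := S1521.result l (Curv2.bc k X l) c4 _ _ hFπ (hMi i) φ hφ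
    rw [CurvesB.VABaseChange.deg_eq sq F (isCoh_of_rank hFr).1] at h1 h2
    exact ⟨h1, fun h => by
      have := h2 h
      exact ⟨asIso φ⟩⟩
  by_contra hcon
  push Not at hcon
  have e0 := (key 0).1
  have e1 := (key 1).1
  obtain ⟨a⟩ := (key 0).2 (by omega)
  obtain ⟨b⟩ := (key 1).2 (by omega)
  exact hne ⟨a.symm ≪≫ b⟩

end K709.G1Deg
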