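import Groth.Agent.VBCurve.K709.AutCount
import Mathlib.CategoryTheory.Linear.Basic
import Mathlib.CategoryTheory.Abelian.Basic
import Mathlib.Algebra.Homology.ShortComplex.ExactFunctor
import Mathlib.Algebra.Homology.ShortComplex.ShortExact

/-!
# Non-split self-extensions and automorphisms of biproducts
-/

set_option autoImplicit false
universe v u

open CategoryTheory CategoryTheory.Limits

namespace K709.NonSplit

section biprod

variable {C : Type u} [Category.{v} C] [Preadditive C] [HasBinaryBiproducts C] {A B : C}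

/-- Automorphisms as isomorphisms. -/
noncomputable def autEquiv (E : C) : Aut E ≃ {m : E ⟶ E // IsIso m} where
  toFun φ := ⟨φ.hom, inferInstance⟩
  invFun m := @asIso _ _ _ _ m.1 m.2
  left_inv φ := by ext; rfl
  right_inv m := rfl

/-- Matrix entries. -/
noncomputable def matEquiv (A B : C) :
    (A ⊞ B ⟶ A ⊞ B) ≃ ((A ⟶ A) × (B ⟶ B)) × ((A ⟶ B) × (B ⟶ A)) where
  toFun m := ((biprod.inl ≫ m ≫ biprod.fst, biprod.inr ≫ m ≫ biprod.snd),
    (biprod.inl ≫ m ≫ biprod.snd, biprod.inr ≫ m ≫ biprod.fst))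
  invFun p := biprod.desc (biprod.lift p.1.1 p.2.1) (biprod.lift p.2.2 p.1.2)
  left_inv m := by
    apply biprod.hom_ext' <;> apply biprod.hom_ext <;> simp
  right_inv p := by
    ext <;> simp

omit [HasBinaryBiproducts C] in
theorem isIso_of_nilp {E : C} (m m' : E ⟶ E) (n n' : E ⟶ E) (h : m ≫ m' = 𝟙 E - n) (h' : m' ≫ m = 𝟙 E - n')
    (hn : n ≫ n = 0) (hn' : n' ≫ n' = 0) : IsIso m := by
  have e1 : m ≫ (m' ≫ (𝟙 E + n)) = 𝟙 E := by
    rw [← Category.assoc, h]
    simp [hn]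
  have e2 : ((𝟙 E + n') ≫ m') ≫ m = 𝟙 E := by
    rw [Category.assoc, h']
    simp [hn']
  refine ⟨m' ≫ (𝟙 E + n), e1, ?_⟩
  have e3 : (𝟙 E + n') ≫ m' = m' ≫ (𝟙 E + n) := by
    calc (𝟙 E + n') ≫ m' = ((𝟙 E + n') ≫ m') ≫ (m ≫ (m' ≫ (𝟙 E + n))) := by rw [e1, Category.comp_id]
      _ = (((𝟙 E + n') ≫ m') ≫ m) ≫ (m' ≫ (𝟙 E + n)) := by simp only [Category.assoc]
      _ = m' ≫ (𝟙 E + n) := by rw [e2, Category.id_comp]
  rw [← e3]
  exact e2

/-- A matrix is invertible iff its diagonal entries are, when all `A ⟶ B ⟶ A` vanish. -/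
theorem isIso_iff (h : ∀ (c : A ⟶ B) (b : B ⟶ A), c ≫ b = 0) (m : A ⊞ B ⟶ A ⊞ B) :
    IsIso m ↔ IsIso (biprod.inl ≫ m ≫ biprod.fst) ∧ IsIso (biprod.inr ≫ m ≫ biprod.snd) := by
  have key : ∀ m m' : A ⊞ B ⟶ A ⊞ B, biprod.inl ≫ (m ≫ m') ≫ biprod.fst =
      (biprod.inl ≫ m ≫ biprod.fst) ≫ (biprod.inl ≫ m' ≫ biprod.fst) := by
    intro m m'
    have h1 : biprod.inl ≫ (m ≫ m') ≫ biprod.fst = biprod.inl ≫ m ≫ (biprod.fst ≫ biprod.inl + biprod.snd ≫ biprod.inr) ≫
        m' ≫ biprod.fst := by rw [biprod.total, Category.id_comp, Category.assoc]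
    rw [h1]
    have h2 := h (biprod.inl ≫ m ≫ biprod.snd) (biprod.inr ≫ m' ≫ biprod.fst)
    simp only [Category.assoc] at h2
    simp only [Preadditive.add_comp, Preadditive.comp_add, Category.assoc, h2, add_zero]
  have key2 : ∀ m m' : A ⊞ B ⟶ A ⊞ B, biprod.inr ≫ (m ≫ m') ≫ biprod.snd =
      (biprod.inr ≫ m ≫ biprod.snd) ≫ (biprod.inr ≫ m' ≫ biprod.snd) +
      (biprod.inr ≫ m ≫ biprod.fst) ≫ (biprod.inl ≫ m' ≫ biprod.snd) := by
    intro m m'
    have h1 : biprod.inr ≫ (m ≫ m') ≫ biprod.snd = biprod.inr ≫ m ≫ (biprod.fst ≫ biprod.inl + biprod.snd ≫ biprod.inr) ≫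
        m' ≫ biprod.snd := by rw [biprod.total, Category.id_comp, Category.assoc]
    rw [h1]
    simp only [Preadditive.add_comp, Preadditive.comp_add, Category.assoc]
    rw [add_comm]
  have nil : ∀ (b b' : B ⟶ A) (c c' : A ⟶ B), (b ≫ c) ≫ (b' ≫ c') = 0 := by
    intro b b' c c'
    rw [Category.assoc, ← Category.assoc c, h, zero_comp, comp_zero]
  constructor
  · intro hm
    have e1 := IsIso.hom_inv_id m
    have e2 := IsIso.inv_hom_id m
    constructor
    · refine ⟨biprod.inl ≫ inv m ≫ biprod.fst, ?_, ?_⟩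
      · rw [← key, e1]; simp
      · rw [← key, e2]; simp
    · refine isIso_of_nilp _ (biprod.inr ≫ inv m ≫ biprod.snd)
        ((biprod.inr ≫ m ≫ biprod.fst) ≫ (biprod.inl ≫ inv m ≫ biprod.snd))
        ((biprod.inr ≫ inv m ≫ biprod.fst) ≫ (biprod.inl ≫ m ≫ biprod.snd)) ?_ ?_ (nil _ _ _ _) (nil _ _ _ _)
      · rw [eq_sub_iff_add_eq, ← key2, e1]; simp
      · rw [eq_sub_iff_add_eq, ← key2, e2]; simp
  · rintro ⟨ha, hd⟩
    let a := biprod.inl ≫ m ≫ biprod.fst
    let d := biprod.inr ≫ m ≫ biprod.snd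
    let δ : A ⊞ B ⟶ A ⊞ B := biprod.map (inv a) (inv d)
    have hδ : IsIso δ := ⟨biprod.map a d, by ext <;> simp [δ, a, d], by ext <;> simp [δ, a, d]⟩
    -- `m ≫ δ = 1 + n`
    let n : A ⊞ B ⟶ A ⊞ B := m ≫ δ - 𝟙 _
    have n11 : biprod.inl ≫ n ≫ biprod.fst = 0 := by
      have : biprod.inl ≫ m ≫ biprod.fst ≫ inv a = 𝟙 A := by
        rw [← Category.assoc m, ← Category.assoc]
        exact IsIso.hom_inv_id a
      simp [n, δ, this]
    have n22 : biprod.inr ≫ n ≫ biprod.snd = 0 := by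
      have : biprod.inr ≫ m ≫ biprod.snd ≫ inv d = 𝟙 B := by
        rw [← Category.assoc m, ← Category.assoc]
        exact IsIso.hom_inv_id d
      simp [n, δ, this]
    let c' := biprod.inl ≫ n ≫ biprod.snd
    let b' := biprod.inr ≫ n ≫ biprod.fst
    have hn : n = biprod.fst ≫ c' ≫ biprod.inr + biprod.snd ≫ b' ≫ biprod.inl := by
      apply biprod.hom_ext' <;> apply biprod.hom_ext
      · rw [Category.assoc, n11]; simp
      · simp [c']
      · simp [b']
      · rw [Category.assoc, n22]; simp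
    have hcb : c' ≫ b' = 0 := h c' b'
    have hn2 : n ≫ n = biprod.snd ≫ b' ≫ c' ≫ biprod.inr := by
      have : n ≫ n = (biprod.fst ≫ c' ≫ biprod.inr + biprod.snd ≫ b' ≫ biprod.inl) ≫
          (biprod.fst ≫ c' ≫ biprod.inr + biprod.snd ≫ b' ≫ biprod.inl) := by rw [← hn]
      rw [this]
      simp [reassoc_of% hcb]
    have hn3 : n ≫ n ≫ n = 0 := by
      have h5 : n ≫ n ≫ n = (biprod.snd ≫ b' ≫ c' ≫ biprod.inr) ≫
          (biprod.fst ≫ c' ≫ biprod.inr + biprod.snd ≫ b' ≫ biprod.inl) := by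
        rw [← hn, ← hn2, Category.assoc]
      rw [h5]
      simp [reassoc_of% hcb]
    have h1 : IsIso (𝟙 _ + n) := by
      refine ⟨𝟙 _ - n + n ≫ n, ?_, ?_⟩
      · simp only [Preadditive.comp_add, Preadditive.comp_sub, Preadditive.add_comp, Category.comp_id,
          Category.id_comp, hn3]
        abel
      · simp only [Preadditive.comp_add, Preadditive.sub_comp, Preadditive.add_comp, Category.comp_id,
          Category.id_comp, Category.assoc, hn3]
        abel
    have h2 : m ≫ δ = 𝟙 _ + n := by simp [n]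
    have h3 : m = (𝟙 _ + n) ≫ inv δ := by rw [← h2]; simp
    rw [h3]
    infer_instance

omit [Preadditive C] [HasBinaryBiproducts C] in
theorem card_aut_eq (E : C) : Nat.card (Aut E) = Nat.card {m : E ⟶ E // IsIso m} := Nat.card_congr (autEquiv E)

/-- The number of automorphisms of `A ⊞ B` when all `A ⟶ B ⟶ A` vanish. -/
theorem card_aut_biprod (h : ∀ (c : A ⟶ B) (b : B ⟶ A), c ≫ b = 0) :
    Nat.card (Aut (A ⊞ B)) = Nat.card (Aut A) * Nat.card (Aut B) * (Nat.card (A ⟶ B) * Nat.card (B ⟶ A)) := by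
  rw [card_aut_eq, card_aut_eq, card_aut_eq, ← Nat.card_prod, ← Nat.card_prod, ← Nat.card_prod]
  refine Nat.card_congr
    { toFun := fun m => ((⟨(matEquiv A B m.1).1.1, ((isIso_iff h m.1).mp m.2).1⟩,
        ⟨(matEquiv A B m.1).1.2, ((isIso_iff h m.1).mp m.2).2⟩), (matEquiv A B m.1).2)
      invFun := fun p => ⟨(matEquiv A B).symm ((p.1.1.1, p.1.2.1), p.2), ?_⟩
      left_inv := fun m => ?_
      right_inv := fun p => ?_ }
  · rw [isIso_iff h]
    have h1 := (matEquiv A B).apply_symm_apply ((p.1.1.1, p.1.2.1), p.2)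
    have h2 : biprod.inl ≫ (matEquiv A B).symm ((p.1.1.1, p.1.2.1), p.2) ≫ biprod.fst = p.1.1.1 :=
      congrArg (fun x => x.1.1) h1
    have h3 : biprod.inr ≫ (matEquiv A B).symm ((p.1.1.1, p.1.2.1), p.2) ≫ biprod.snd = p.1.2.1 :=
      congrArg (fun x => x.1.2) h1
    rw [h2, h3]
    exact ⟨p.1.1.2, p.1.2.2⟩
  · apply Subtype.ext
    exact (matEquiv A B).symm_apply_apply m.1
  · have h1 := (matEquiv A B).apply_symm_apply ((p.1.1.1, p.1.2.1), p.2)
    refine Prod.ext (Prod.ext (Subtype.ext ?_) (Subtype.ext ?_)) ?_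
    · exact congrArg (fun x => x.1.1) h1
    · exact congrArg (fun x => x.1.2) h1
    · exact congrArg (fun x => x.2) h1

end biprod

section ext

variable {C : Type u} [Category.{v} C] [Abelian C] (k : Type*) [Field k] [Linear k C] {O F : C}
  (hO : Function.Bijective (algebraMap k (End O))) (f : O ⟶ F) (g : F ⟶ O) (w : f ≫ g = 0)
  (hS : (ShortComplex.mk f g w).ShortExact) (hns : ∀ s : O ⟶ F, s ≫ g ≠ 𝟙 O)

include hO

theorem exists_smul (h : O ⟶ O) : ∃ c : k, h = c • 𝟙 O := by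
  obtain ⟨c, hc⟩ := hO.2 h
  exact ⟨c, by rw [← hc, Algebra.algebraMap_eq_smul_one]; rfl⟩

theorem smul_id_eq_zero {c : k} (h : c • 𝟙 O = 0) : c = 0 := by
  apply hO.1
  rw [map_zero, Algebra.algebraMap_eq_smul_one]
  exact h

include hns in
theorem comp_g (h : O ⟶ F) : h ≫ g = 0 := by
  obtain ⟨c, hc⟩ := exists_smul k hO (h ≫ g)
  by_cases hc0 : c = 0
  · rw [hc, hc0, zero_smul]
  · exfalso
    apply hns (c⁻¹ • h)
    rw [Linear.smul_comp, hc, smul_smul, inv_mul_cancel₀ hc0, one_smul]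

include hS hns in
theorem exists_sec (h : O ⟶ F) : ∃ c : k, h = c • f := by
  have h1 := comp_g k hO g hns h
  have hm : Mono f := hS.mono_f
  obtain ⟨h', hh'⟩ : ∃ h' : O ⟶ O, h' ≫ f = h := by
    have := hS.exact
    exact ⟨this.lift h h1, this.lift_f h h1⟩
  obtain ⟨c, hc⟩ := exists_smul k hO h'
  exact ⟨c, by rw [← hh', hc, Linear.smul_comp, Category.id_comp]⟩

include hS hns in
theorem f_comp (h : F ⟶ O) : f ≫ h = 0 := by
  obtain ⟨c, hc⟩ := exists_smul k hO (f ≫ h)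
  by_cases hc0 : c = 0
  · rw [hc, hc0, zero_smul]
  · exfalso
    have h1 : f ≫ (c⁻¹ • h) = 𝟙 O := by
      rw [Linear.comp_smul, hc, smul_smul, inv_mul_cancel₀ hc0, one_smul]
    have he : Epi g := hS.epi_g
    let sp := ShortComplex.Splitting.ofExactOfRetraction (ShortComplex.mk f g w) hS.exact (c⁻¹ • h) h1 he
    exact hns sp.s sp.s_g

include hS hns in
theorem exists_ret (h : F ⟶ O) : ∃ c : k, h = c • g := by
  have h1 := f_comp k hO f g w hS hns h
  have he : Epi g := hS.epi_g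
  obtain ⟨h', hh'⟩ : ∃ h' : O ⟶ O, g ≫ h' = h := by
    have := hS.exact
    exact ⟨this.desc h h1, this.g_desc h h1⟩
  obtain ⟨c, hc⟩ := exists_smul k hO h'
  exact ⟨c, by rw [← hh', hc, Linear.comp_smul, Category.comp_id]⟩

include hS hns in
theorem card_hom_left : Nat.card (O ⟶ F) = Nat.card k := by
  have hm : Mono f := hS.mono_f
  refine (Nat.card_congr (Equiv.ofBijective (fun c : k => c • f) ⟨fun c c' h => ?_, fun h => ?_⟩)).symm
  · have h1 : (c - c') • 𝟙 O = 0 := by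
      rw [← cancel_mono f, zero_comp, Linear.smul_comp, Category.id_comp, sub_smul, sub_eq_zero]
      exact h
    exact sub_eq_zero.mp (smul_id_eq_zero k hO h1)
  · obtain ⟨c, hc⟩ := exists_sec k hO f g w hS hns h
    exact ⟨c, hc.symm⟩

include hS hns in
theorem card_hom_right : Nat.card (F ⟶ O) = Nat.card k := by
  have he : Epi g := hS.epi_g
  refine (Nat.card_congr (Equiv.ofBijective (fun c : k => c • g) ⟨fun c c' h => ?_, fun h => ?_⟩)).symm
  · have h1 : (c - c') • 𝟙 O = 0 := by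
      rw [← cancel_epi g, comp_zero, Linear.comp_smul, Category.comp_id, sub_smul, sub_eq_zero]
      exact h
    exact sub_eq_zero.mp (smul_id_eq_zero k hO h1)
  · obtain ⟨c, hc⟩ := exists_ret k hO f g w hS hns h
    exact ⟨c, hc.symm⟩

include hS hns in
theorem comp_eq_zero (a : O ⟶ F) (b : F ⟶ O) : a ≫ b = 0 := by
  obtain ⟨c, rfl⟩ := exists_ret k hO f g w hS hns b
  rw [Linear.comp_smul, comp_g k hO g hns, smul_zero]

include hS hns in
theorem exists_endo (φ : F ⟶ F) : ∃ c b : k, φ = c • 𝟙 F + b • (g ≫ f) := by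
  obtain ⟨c, hc⟩ := exists_ret k hO f g w hS hns (φ ≫ g)
  have hm : Mono f := hS.mono_f
  have h1 : (φ - c • 𝟙 F) ≫ g = 0 := by
    rw [Preadditive.sub_comp, hc, Linear.smul_comp, Category.id_comp, sub_self]
  obtain ⟨h', hh'⟩ : ∃ h' : F ⟶ O, h' ≫ f = φ - c • 𝟙 F := by
    have := hS.exact
    exact ⟨this.lift _ h1, this.lift_f _ h1⟩
  obtain ⟨b, hb⟩ := exists_ret k hO f g w hS hns h'
  refine ⟨c, b, ?_⟩
  rw [← Linear.smul_comp, ← hb, hh']
  abel

include hS in
theorem endo_unique {c b : k} (h : c • 𝟙 F + b • (g ≫ f) = 0) : c = 0 ∧ b = 0 := by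
  have hm : Mono f := hS.mono_f
  have he : Epi g := hS.epi_g
  have hc : c = 0 := by
    have h1 : f ≫ (c • 𝟙 F + b • (g ≫ f)) = 0 := by rw [h, comp_zero]
    rw [Preadditive.comp_add, Linear.comp_smul, Linear.comp_smul, Category.comp_id, ← Category.assoc, w, zero_comp,
      smul_zero, add_zero] at h1
    refine smul_id_eq_zero k hO ?_
    rw [← cancel_mono f, zero_comp, Linear.smul_comp, Category.id_comp, h1]
  subst hc
  refine ⟨rfl, ?_⟩
  rw [zero_smul, zero_add] at h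
  refine smul_id_eq_zero k hO ?_
  rw [← cancel_mono f, ← cancel_epi g, zero_comp, comp_zero, Linear.smul_comp, Category.id_comp, Linear.comp_smul, h]

omit hO in
include w in
theorem isIso_endo {c b : k} (hc : c ≠ 0) : IsIso (c • 𝟙 F + b • (g ≫ f)) := by
  have h0 : (g ≫ f) ≫ (g ≫ f) = 0 := by
    rw [Category.assoc, ← Category.assoc f, w, zero_comp, comp_zero]
  have key : ∀ x y x' y' : k, (x • 𝟙 F + y • (g ≫ f)) ≫ (x' • 𝟙 F + y' • (g ≫ f)) =
      (x * x') • 𝟙 F + (x * y' + y * x') • (g ≫ f) := by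
    intro x y x' y'
    simp only [Preadditive.add_comp, Preadditive.comp_add, Linear.smul_comp, Linear.comp_smul, Category.id_comp,
      Category.comp_id, h0, smul_zero, add_zero, smul_smul, add_smul, smul_add]
    rw [mul_comm x' x, mul_comm y' x, mul_comm x' y]
    abel
  refine ⟨c⁻¹ • 𝟙 F + (-(b * c⁻¹ * c⁻¹)) • (g ≫ f), ?_, ?_⟩
  · rw [key]
    have e1 : c * c⁻¹ = 1 := mul_inv_cancel₀ hc
    have e2 : c * -(b * c⁻¹ * c⁻¹) + b * c⁻¹ = 0 := by
      field_simp
      ring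
    rw [e1, e2, one_smul, zero_smul, add_zero]
  · rw [key]
    have e1 : c⁻¹ * c = 1 := inv_mul_cancel₀ hc
    have e2 : c⁻¹ * b + -(b * c⁻¹ * c⁻¹) * c = 0 := by
      field_simp
      ring
    rw [e1, e2, one_smul, zero_smul, add_zero]

include hS hns in
theorem card_aut [Finite k] : Nat.card (Aut F) = (Nat.card k - 1) * Nat.card k := by
  have h1 : Nat.card (Aut F) = Nat.card (kˣ × k) := by
    rw [card_aut_eq]
    refine (Nat.card_congr (Equiv.ofBijective (fun p : kˣ × k =>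
      (⟨(p.1 : k) • 𝟙 F + p.2 • (g ≫ f), isIso_endo k f g w p.1.ne_zero⟩ : {m : F ⟶ F // IsIso m})) ⟨?_, ?_⟩)).symm
    · rintro ⟨c, b⟩ ⟨c', b'⟩ h
      have h2 := congrArg Subtype.val h
      change (c : k) • 𝟙 F + b • (g ≫ f) = (c' : k) • 𝟙 F + b' • (g ≫ f) at h2
      have h3 : ((c : k) - c') • 𝟙 F + (b - b') • (g ≫ f) = 0 := by
        rw [sub_smul, sub_smul]
        rw [← sub_eq_zero] at h2
        rw [← h2]
        abel
      obtain ⟨h4, h5⟩ := endo_unique k hO f g w hS h3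
      exact Prod.ext (Units.ext (sub_eq_zero.mp h4)) (sub_eq_zero.mp h5)
    · rintro ⟨m, hm⟩
      obtain ⟨c, b, rfl⟩ := exists_endo k hO f g w hS hns m
      have hc : c ≠ 0 := by
        rintro rfl
        have hne : Mono f := hS.mono_f
        have h2 : f ≫ ((0 : k) • 𝟙 F + b • (g ≫ f)) = 0 := by
          rw [zero_smul, zero_add, Linear.comp_smul, ← Category.assoc, w, zero_comp, smul_zero]
        have h3 : f = 0 := by
          rw [← cancel_mono ((0 : k) • 𝟙 F + b • (g ≫ f)), h2, zero_comp]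
        have h4 : (1 : k) • 𝟙 O = 0 := by
          rw [one_smul, ← cancel_mono f, zero_comp, h3, comp_zero]
        exact one_ne_zero (smul_id_eq_zero k hO h4)
      exact ⟨(Units.mk0 c hc, b), rfl⟩
  rw [h1, Nat.card_prod, Nat.card_units]

end ext

end K709.NonSplit
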