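import Groth.Agent.VBCurve.K709.G1
import Groth.Agent.VBCurve.K709.NonSplit
import Groth.Agent.VBCurve.K707.TensL

/-!
# Non-split self-extensions of the structure sheaf: automorphism counts
-/

set_option autoImplicit false
universe u
open CategoryTheory CategoryTheory.Limits AlgebraicGeometry Opposite TopologicalSpace

namespace K709.G1Ext

open Groth.Agent

theorem exists_data {C : Type*} [Category* C] [Abelian C] {O : C} (T : ShortComplex C) (hT : T.ShortExact)
    (e₁ : T.X₁ ≅ O) (e₃ : T.X₃ ≅ O) (hns : ¬ IsSplitEpi T.g) :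
    ∃ (f : O ⟶ T.X₂) (g : T.X₂ ⟶ O) (w : f ≫ g = 0), (ShortComplex.mk f g w).ShortExact ∧ ∀ s : O ⟶ T.X₂, s ≫ g ≠ 𝟙 O := by
  refine ⟨e₁.inv ≫ T.f, T.g ≫ e₃.hom, by simp, ?_, ?_⟩
  · refine ShortComplex.shortExact_of_iso (S₁ := T) ?_ hT
    exact ShortComplex.isoMk e₁ (Iso.refl _) e₃ (by simp) (by simp)
  · intro s hs
    apply hns
    refine ⟨⟨e₃.hom ≫ s, ?_⟩⟩
    rw [← cancel_mono e₃.hom, Category.assoc, Category.assoc, hs]
    simp

variable (k : Type u) [Field k] [Finite k] {X : Scheme.{u}} [X.Over (Spec (CommRingCat.of k))]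
    [IsProper (X ↘ Spec (CommRingCat.of k))] [GeometricallyIntegral (X ↘ Spec (CommRingCat.of k))]
    (hdim : topologicalKrullDim X = 1) (T : ShortComplex X.Modules) (hT : T.ShortExact)
    (e₁ : T.X₁ ≅ Coh.structureModule X) (e₃ : T.X₃ ≅ Coh.structureModule X) (hns : ¬ IsSplitEpi T.g)

include hT e₁ e₃ hns

attribute [local instance] Groth.Agent.CurvesC.LinMod.linearModules in
theorem card_aut_F : Nat.card (Aut T.X₂) = (Nat.card k - 1) * Nat.card k := by
  obtain ⟨f, g, w, hS, hs⟩ := exists_data T hT e₁ e₃ hns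
  exact NonSplit.card_aut k (FDRank.bijective_algebraMap_end k Fdesc.LocGen.isInvertible_structureModule) f g w hS hs

attribute [local instance] Groth.Agent.CurvesC.LinMod.linearModules in
theorem card_aut_one : Nat.card (Aut (Coh.structureModule X ⊞ T.X₂)) = (Nat.card k - 1) ^ 2 * Nat.card k ^ 3 := by
  obtain ⟨f, g, w, hS, hs⟩ := exists_data T hT e₁ e₃ hns
  have hb := FDRank.bijective_algebraMap_end k (X := X) Fdesc.LocGen.isInvertible_structureModule
  obtain ⟨eO⟩ := G1.nonempty_ringEquiv_end k (X := X) Fdesc.LocGen.isInvertible_structureModule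
  rw [NonSplit.card_aut_biprod (NonSplit.comp_eq_zero k hb f g w hS hs), AutCount.card_aut_one k eO,
    card_aut_F k T hT e₁ e₃ hns, NonSplit.card_hom_left k hb f g w hS hs, NonSplit.card_hom_right k hb f g w hS hs]
  ring

include hdim in
theorem card_aut_two (L : X.Modules) (hL : PicF.IsInvertible L) (hdeg : Curv2.deg k X L 1 = 0)
    (hne : ¬ Nonempty (L ≅ Coh.structureModule X)) :
    Nat.card (Aut (Coh.structureModule X ⊞ CohB1.tensorMod L T.X₂)) = (Nat.card k - 1) ^ 2 * Nat.card k := by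
  have hint : IsIntegral X := GeometricallyIntegral.isIntegral_of_subsingleton (X ↘ Spec (CommRingCat.of k))
  have hO1 : PicF.IsInvertible (Coh.structureModule X) := Fdesc.LocGen.isInvertible_structureModule
  have hdO : Curv2.deg k X (Coh.structureModule X) 1 = 0 := by
    unfold Curv2.deg
    push_cast
    ring
  obtain ⟨eO⟩ := G1.nonempty_ringEquiv_end k (X := X) hO1
  have hne' : ¬ Nonempty (Coh.structureModule X ≅ L) := fun ⟨x⟩ => hne ⟨x.symm⟩
  have heq := K707.TensL.isEquivalence hL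
  let F := K707.TensL.T L
  have hS : (T.map F).ShortExact := hT.map_of_exact F
  have a : ∀ {M : X.Modules}, (M ≅ Coh.structureModule X) → (F.obj M ≅ L) := fun e =>
    F.mapIso e ≪≫ Ega2.Tens.lunit L
  have a₁ : (T.map F).X₁ ≅ L := a e₁
  have a₃ : (T.map F).X₃ ≅ L := a e₃
  have hm : Mono (T.map F).f := hS.mono_f
  have he : Epi (T.map F).g := hS.epi_g
  have z1 : ∀ φ : Coh.structureModule X ⟶ L, φ = 0 := fun φ =>
    G1.hom_eq_zero k hdim hO1 hL (by rw [hdO, hdeg]) hne' φ
  have z2 : ∀ φ : L ⟶ Coh.structureModule X, φ = 0 := fun φ =>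
    G1.hom_eq_zero k hdim hL hO1 (by rw [hdO, hdeg]) hne φ
  have h1 : ∀ φ : Coh.structureModule X ⟶ (T.map F).X₂, φ = 0 := by
    intro φ
    have h2 : φ ≫ (T.map F).g = 0 := by
      rw [← cancel_mono a₃.hom, zero_comp]
      exact z1 _
    have h3 : hS.exact.lift φ h2 = 0 := by
      rw [← cancel_mono a₁.hom, zero_comp]
      exact z1 _
    rw [← hS.exact.lift_f φ h2, h3, zero_comp]
  have h2 : ∀ φ : (T.map F).X₂ ⟶ Coh.structureModule X, φ = 0 := by
    intro φ
    have h2 : (T.map F).f ≫ φ = 0 := by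
      rw [← cancel_epi a₁.inv, comp_zero]
      exact z2 _
    have h3 : hS.exact.desc φ h2 = 0 := by
      rw [← cancel_epi a₃.inv, comp_zero]
      exact z2 _
    rw [← hS.exact.g_desc φ h2, h3, comp_zero]
  let sw : CohB1.tensorMod L T.X₂ ≅ (T.map F).X₂ := Ega2.Tens.swap L T.X₂
  have h3 : Nat.card (Aut (T.map F).X₂) = Nat.card (Aut T.X₂) :=
    (Nat.card_congr ((Functor.FullyFaithful.ofFullyFaithful F).isoEquiv (X := T.X₂) (Y := T.X₂))).symm
  rw [AutCount.card_aut_iso (biprod.mapIso (Iso.refl _) sw), AutCount.card_aut_biprod h1 h2,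
    AutCount.card_aut_one k eO, h3, card_aut_F k T hT e₁ e₃ hns]
  ring

end K709.G1Ext
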