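import Groth.Agent.VBCurve.K709.P1Koszul
import Groth.Agent.VBCurve.K709.KerDesc
import Groth.Agent.Krr.H496.PullK0
import Groth.Agent.Krr.H487.KerRank
import Groth.Agent.Krr.H495.Rank
import Groth.Agent.Krr.H446.PnBasic

/-!
# A family of rank two modules on the projective line with a jumping splitting type
-/

set_option autoImplicit false
universe u

open CategoryTheory CategoryTheory.Limits AlgebraicGeometry Opposite TopologicalSpace

namespace K709.P1Fam

open Groth.Agent Groth.Agent.LoccohB.HHmap K709.KerDesc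

variable {S : Scheme.{u}} (t : Γ(CohB1.ProjSpaceOver 1 S, ⊤)) (m : ℕ) (a b : ℤ) (h : b = a + m)

/-- The map `(y^m, x, t) : (O(a+1) ⊕ O(b)) ⊕ O(b+1) ⟶ O(b+1)`. -/
noncomputable abbrev phi : (P1Koszul.commSq 1 S 0 1 m a b h).shortComplex.X₂ ⊞ Twist.twistOver 1 S (b + 1) ⟶
    Twist.twistOver 1 S (b + 1) :=
  biprod.desc (P1Koszul.commSq 1 S 0 1 m a b h).shortComplex.g (smulHom (Twist.twistOver 1 S (b + 1)) t)

theorem epi_phi : Epi (phi t m a b h) := by
  have h1 : Epi (P1Koszul.commSq 1 S 0 1 m a b h).shortComplex.g := (P1Koszul.shortExact S m a b h).epi_g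
  have h2 : biprod.inl ≫ phi t m a b h = (P1Koszul.commSq 1 S 0 1 m a b h).shortComplex.g :=
    biprod.inl_desc _ _
  have h3 : Epi (biprod.inl ≫ phi t m a b h) := by rw [h2]; exact h1
  exact epi_of_epi biprod.inl (phi t m a b h)

/-- The module `F_t`. -/
noncomputable abbrev fam : (CohB1.ProjSpaceOver 1 S).Modules := kernel (phi t m a b h)

theorem rank_fam : FlatMod.IsFinLocFreeOfRank 2 (fam t m a b h) := by
  have h1 := epi_phi t m a b h
  have hr : ∀ d : ℤ, FlatMod.IsFinLocFreeOfRank 1 (Twist.twistOver 1 S d) :=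
    fun d => Krr.H446.PnBasic.isFinLocFreeOfRank_twistOver 1 S d
  refine Krr.H487.KerRank.isFinLocFreeOfRank_kernel (phi t m a b h) (r := 2) (m := 1) ?_ (hr _)
  exact Krr.H495.Rank.rank_biprod (n := 2) (m := 1)
    (Krr.H495.Rank.rank_biprod (n := 1) (m := 1) (hr _) (hr _)) (hr _)

variable {S' : Scheme.{u}} (ι : CohB1.ProjSpaceOver 1 S' ⟶ CohB1.ProjSpaceOver 1 S)
  (hι : ι ≫ pullback.fst (CohB1.ProjSpace.toSpec 1 (ULift.{u} ℤ)) (specULiftZIsTerminal.from S) =
    pullback.fst (CohB1.ProjSpace.toSpec 1 (ULift.{u} ℤ)) (specULiftZIsTerminal.from S'))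

include hι in
theorem nonempty_pullTwist (d : ℤ) :
    Nonempty ((Scheme.Modules.pullback ι).obj (Twist.twistOver 1 S d) ≅ Twist.twistOver 1 S' d) :=
  ⟨(Scheme.Modules.pullbackComp ι (pullback.fst _ _)).app _ ≪≫
    (Scheme.Modules.pullbackCongr hι).app _⟩

theorem nonempty_pullback_fam : Nonempty ((Scheme.Modules.pullback ι).obj (fam t m a b h) ≅
    kernel (biprod.desc ((Scheme.Modules.pullback ι).map (P1Koszul.commSq 1 S 0 1 m a b h).shortComplex.g)
      (smulHom ((Scheme.Modules.pullback ι).obj (Twist.twistOver 1 S (b + 1))) (ι.appTop t)))) := by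
  have h1 := epi_phi t m a b h
  rw [← pullback_map_smulHom]
  refine nonempty_map_kernel_desc (Scheme.Modules.pullback ι) _ _ ?_
  refine Krr.H496.PullK0.shortExact_pullback_of_isFinLocFree ι ?_
    (Krr.H446.PnBasic.isFinLocFree_twistOver 1 S (b + 1))
  exact { exact := ShortComplex.exact_kernel _, mono_f := inferInstance, epi_g := h1 }

include hι in
/-- The fibre where `t` becomes invertible. -/
theorem nonempty_of_isUnit (ht : IsUnit (ι.appTop t)) :
    Nonempty ((Scheme.Modules.pullback ι).obj (fam t m a b h) ≅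
      Twist.twistOver 1 S' (a + 1) ⊞ Twist.twistOver 1 S' b) := by
  obtain ⟨e⟩ := nonempty_pullback_fam t m a b h ι
  have hi : IsIso (smulHom ((Scheme.Modules.pullback ι).obj (Twist.twistOver 1 S (b + 1))) (ι.appTop t)) :=
    isIso_smulHom _ ht
  obtain ⟨e1⟩ := nonempty_pullTwist ι hι (a + 1)
  obtain ⟨e2⟩ := nonempty_pullTwist ι hι b
  have := preservesBinaryBiproducts_of_preservesBiproducts (Scheme.Modules.pullback ι)
  exact ⟨e ≪≫ @kerDescIso _ _ _ _ _ _ _ _ hi ≪≫ (Scheme.Modules.pullback ι).mapBiprod _ _ ≪≫ biprod.mapIso e1 e2⟩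

include hι in
/-- The fibre where `t` becomes zero. -/
theorem nonempty_of_eq_zero (ht : ι.appTop t = 0) :
    Nonempty ((Scheme.Modules.pullback ι).obj (fam t m a b h) ≅
      Twist.twistOver 1 S' (b + 1) ⊞ Twist.twistOver 1 S' a) := by
  obtain ⟨e⟩ := nonempty_pullback_fam t m a b h ι
  rw [ht, smulHom_zero] at e
  obtain ⟨e1⟩ := nonempty_pullTwist ι hι (b + 1)
  obtain ⟨e2⟩ := nonempty_pullTwist ι hι a
  have hS := Krr.H496.PullK0.shortExact_pullback_of_isFinLocFree ι (P1Koszul.shortExact S m a b h)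
    (Krr.H446.PnBasic.isFinLocFree_twistOver 1 S (b + 1))
  have e3 : (Scheme.Modules.pullback ι).obj (Twist.twistOver 1 S a) ≅
      kernel ((Scheme.Modules.pullback ι).map (P1Koszul.commSq 1 S 0 1 m a b h).shortComplex.g) :=
    hS.fIsKernel.conePointUniqueUpToIso (limit.isLimit _)
  exact ⟨e ≪≫ kerDescZeroIso _ ≪≫ biprod.mapIso (e3.symm ≪≫ e2) e1 ≪≫ biprod.braiding _ _⟩

end K709.P1Fam
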