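import Mathlib.RingTheory.Nullstellensatz
import Mathlib.RingTheory.AlgebraicIndependent.TranscendenceBasis
import Mathlib.RingTheory.MvPolynomial.WeightedHomogeneous
import Mathlib.RingTheory.GradedAlgebra.Basic
import Mathlib.RingTheory.IntegralClosure.Algebra.Basic
import Mathlib.LinearAlgebra.TensorProduct.Basic
import Mathlib.LinearAlgebra.Dimension.Finrank
import Mathlib.Analysis.Complex.Polynomial.Basic

/-!
# Bilinear forms without nontrivial zeros (the Hopf lemma)
-/

set_option autoImplicit false

namespace K709.Hopf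

open MvPolynomial

section Forms

variable {k : Type*} [Field k] {α β : Type*} [Fintype α] [Fintype β]

/-- The bidegree weights. -/
def wt (α β : Type*) : α ⊕ β → ℕ × ℕ := Sum.elim (fun _ => (1, 0)) (fun _ => (0, 1))

/-- The span of the products `x_i y_j`. -/
noncomputable def W (k : Type*) [Field k] (α β : Type*) : Submodule k (MvPolynomial (α ⊕ β) k) :=
  Submodule.span k (Set.range fun p : α × β => (X (Sum.inl p.1) * X (Sum.inr p.2)))

theorem weight_eq (d : α ⊕ β →₀ ℕ) :
    Finsupp.weight (wt α β) d = (∑ i, d (Sum.inl i), ∑ j, d (Sum.inr j)) := by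
  classical
  rw [Finsupp.weight_apply, Finsupp.sum_fintype _ _ (by intro; simp)]
  rw [Fintype.sum_sum_type]
  simp only [wt, Sum.elim_inl, Sum.elim_inr]
  ext <;> simp [Prod.fst_sum, Prod.snd_sum]

theorem monomial_mem (n : ℕ) : ∀ (d : α ⊕ β →₀ ℕ) (_ : Finsupp.weight (wt α β) d = (n, n)) (c : k),
    monomial d c ∈ (W k α β) ^ n := by
  classical
  induction n with
  | zero =>
    intro d hd c
    rw [weight_eq] at hd
    have h1 : d = 0 := by
      ext x
      rw [Prod.mk.injEq] at hd
      rcases x with i | j
      · simpa using (Finset.sum_eq_zero_iff.mp hd.1) i (Finset.mem_univ _)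
      · simpa using (Finset.sum_eq_zero_iff.mp hd.2) j (Finset.mem_univ _)
    subst h1
    rw [pow_zero, Submodule.one_eq_range]
    exact ⟨c, rfl⟩
  | succ n ih =>
    intro d hd c
    have hd' := hd
    rw [weight_eq, Prod.mk.injEq] at hd'
    obtain ⟨i, -, hi⟩ : ∃ i ∈ Finset.univ, d (Sum.inl i) ≠ 0 := by
      by_contra hcon
      push Not at hcon
      rw [Finset.sum_eq_zero (fun i hi => hcon i hi)] at hd'
      omega
    obtain ⟨j, -, hj⟩ : ∃ j ∈ Finset.univ, d (Sum.inr j) ≠ 0 := by
      by_contra hcon
      push Not at hcon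
      rw [Finset.sum_eq_zero (fun i hi => hcon i hi)] at hd'
      omega
    set e : α ⊕ β →₀ ℕ := Finsupp.single (Sum.inl i) 1 + Finsupp.single (Sum.inr j) 1 with he
    have hle : e ≤ d := by
      intro x
      rw [he]
      rcases x with i' | j'
      · by_cases h : i = i'
        · subst h
          simp
          omega
        · simp [h]
      · by_cases h : j = j'
        · subst h
          simp
          omega
        · simp [h]
    obtain ⟨d', rfl⟩ : ∃ d', d = e + d' := ⟨d - e, (add_tsub_cancel_of_le hle).symm⟩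
    have hw : Finsupp.weight (wt α β) e = (1, 1) := by
      rw [he, map_add, Finsupp.weight_single, Finsupp.weight_single]
      simp [wt]
    rw [map_add, hw] at hd
    have hd2 : Finsupp.weight (wt α β) d' = (n, n) := by
      rw [Prod.ext_iff] at hd ⊢
      simp only [Prod.fst_add, Prod.snd_add] at hd
      constructor
      · simpa using (by omega : (Finsupp.weight (wt α β) d').1 = n)
      · simpa using (by omega : (Finsupp.weight (wt α β) d').2 = n)
    have hmul : (monomial (e + d') c : MvPolynomial (α ⊕ β) k) =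
        (X (Sum.inl i) * X (Sum.inr j)) * monomial d' c := by
      rw [X, X, monomial_mul, monomial_mul, he]
      simp
    rw [hmul, pow_succ']
    exact Submodule.mul_mem_mul (Submodule.subset_span ⟨(i, j), rfl⟩) (ih d' hd2 c)

theorem mem_pow_of_isWeightedHomogeneous {n : ℕ} {f : MvPolynomial (α ⊕ β) k}
    (hf : IsWeightedHomogeneous (wt α β) f (n, n)) : f ∈ (W k α β) ^ n := by
  rw [f.as_sum]
  refine Submodule.sum_mem _ fun d hd => monomial_mem n d (hf ?_) _
  simpa using (mem_support_iff.mp hd)

omit [Fintype α] [Fintype β] in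
theorem W_le : W k α β ≤ weightedHomogeneousSubmodule k (wt α β) (1, 1) := by
  rw [W, Submodule.span_le]
  rintro _ ⟨⟨i, j⟩, rfl⟩
  rw [SetLike.mem_coe, mem_weightedHomogeneousSubmodule]
  have h1 := (isWeightedHomogeneous_X k (wt α β) (Sum.inl i)).mul
    (isWeightedHomogeneous_X k (wt α β) (Sum.inr j))
  simpa [wt] using h1

omit [Fintype α] [Fintype β] in
theorem W_pow_le (n : ℕ) : (W k α β) ^ n ≤ weightedHomogeneousSubmodule k (wt α β) (n, n) := by
  induction n with
  | zero =>
    rw [pow_zero, Submodule.one_eq_range]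
    rintro _ ⟨c, rfl⟩
    rw [mem_weightedHomogeneousSubmodule]
    exact isWeightedHomogeneous_C _ _
  | succ n ih =>
    rw [pow_succ]
    refine Submodule.mul_le.mpr fun a ha b hb => ?_
    have h1 := ((mem_weightedHomogeneousSubmodule ..).mp (ih ha)).mul
      ((mem_weightedHomogeneousSubmodule ..).mp (W_le hb))
    rw [mem_weightedHomogeneousSubmodule]
    simpa using h1


variable {c : ℕ}

/-- The bilinear form with coefficients `N t`. -/
noncomputable def form (N : Fin c → α → β → k) (t : Fin c) : MvPolynomial (α ⊕ β) k :=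
  ∑ i, ∑ j, C (N t i j) * (X (Sum.inl i) * X (Sum.inr j))

theorem form_mem_W (N : Fin c → α → β → k) (t : Fin c) : form N t ∈ W k α β := by
  refine Submodule.sum_mem _ fun i _ => Submodule.sum_mem _ fun j _ => ?_
  rw [← smul_eq_C_mul]
  exact Submodule.smul_mem _ _ (Submodule.subset_span ⟨(i, j), rfl⟩)

theorem aeval_form (N : Fin c → α → β → k) (t : Fin c) (z : α ⊕ β → k) :
    aeval z (form N t) = ∑ i, ∑ j, N t i j * (z (Sum.inl i) * z (Sum.inr j)) := by
  simp [form]

/-- The span of the forms. -/
noncomputable def V (N : Fin c → α → β → k) : Submodule k (MvPolynomial (α ⊕ β) k) :=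
  Submodule.span k (Set.range (form N))

theorem mem_span_range_iff {R : Type*} [CommRing R] {ι : Type*} [Fintype ι] (v : ι → R) (x : R) :
    x ∈ Ideal.span (Set.range v) ↔ ∃ s : ι → R, ∑ i, s i * v i = x := by
  rw [Ideal.span, Submodule.mem_span_range_iff_exists_fun]
  rfl

theorem mem_V_mul_W_pow (N : Fin c → α → β → k) (n : ℕ) {f : MvPolynomial (α ⊕ β) k}
    (hf : IsWeightedHomogeneous (wt α β) f (n + 1, n + 1))
    (hfI : f ∈ Ideal.span (Set.range (form N))) : f ∈ V N * (W k α β) ^ n := by
  classical
  obtain ⟨s, hs⟩ := (mem_span_range_iff _ _).mp hfI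
  let _ := weightedGradedAlgebra k (wt α β)
  have key : ∀ t, weightedHomogeneousComponent (wt α β) (n + 1, n + 1) (s t * form N t) =
      weightedHomogeneousComponent (wt α β) (n, n) (s t) * form N t := by
    intro t
    have h1 := DirectSum.coe_decompose_mul_add_of_right_mem (weightedHomogeneousSubmodule k (wt α β))
      (i := (n, n)) (j := (1, 1)) (a := s t) (b := form N t) (W_le (form_mem_W N t))
    rw [← weightedDecomposition.decompose'_apply, ← weightedDecomposition.decompose'_apply]
    exact h1
  have h2 : f = ∑ t, weightedHomogeneousComponent (wt α β) (n, n) (s t) * form N t := by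
    rw [← weightedHomogeneousComponent_eq_self hf, ← hs, map_sum]
    exact Finset.sum_congr rfl fun t _ => key t
  rw [h2]
  refine Submodule.sum_mem _ fun t _ => ?_
  rw [mul_comm (weightedHomogeneousComponent (wt α β) (n, n) (s t)) (form N t)]
  have h3 : form N t ∈ V N := Submodule.subset_span ⟨t, rfl⟩
  have h4 : weightedHomogeneousComponent (wt α β) (n, n) (s t) ∈ (W k α β) ^ n :=
    mem_pow_of_isWeightedHomogeneous (weightedHomogeneousComponent_isWeightedHomogeneous _ _)
  exact Submodule.mul_mem_mul h3 h4

theorem exists_pow_le [IsAlgClosed k] (N : Fin c → α → β → k)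
    (h : ∀ (x : α → k) (y : β → k), (∀ t, ∑ i, ∑ j, N t i j * (x i * y j) = 0) → x = 0 ∨ y = 0) :
    ∃ n : ℕ, (W k α β) ^ (n + 1) ≤ V N * (W k α β) ^ n := by
  classical
  set J : Ideal (MvPolynomial (α ⊕ β) k) :=
    Ideal.span (Set.range fun p : α × β => (X (Sum.inl p.1) * X (Sum.inr p.2))) with hJ
  have hrad : J ≤ (Ideal.span (Set.range (form N))).radical := by
    rw [← vanishingIdeal_zeroLocus_eq_radical (K := k), hJ, Ideal.span_le]
    rintro _ ⟨⟨i, j⟩, rfl⟩
    rw [SetLike.mem_coe, mem_vanishingIdeal_iff]
    intro z hz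
    rw [zeroLocus_span] at hz
    have h1 := h (fun i => z (Sum.inl i)) (fun j => z (Sum.inr j)) (fun t => by
      rw [← aeval_form]
      exact hz _ ⟨t, rfl⟩)
    rcases h1 with h1 | h1
    · have := congrFun h1 i
      simp only [Pi.zero_apply] at this
      simp [this]
    · have := congrFun h1 j
      simp only [Pi.zero_apply] at this
      simp [this]
  obtain ⟨n, hn⟩ := Ideal.exists_pow_le_of_le_radical_of_fg hrad
    (Submodule.fg_span (Set.finite_range _))
  have hWJ : ∀ m, ((W k α β) ^ m : Submodule k (MvPolynomial (α ⊕ β) k)) ≤ (J ^ m).restrictScalars k := by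
    intro m
    induction m with
    | zero =>
      intro x _
      simp
    | succ m ih =>
      rw [pow_succ]
      refine Submodule.mul_le.mpr fun a ha b hb => ?_
      have hb' : b ∈ J := by
        have : W k α β ≤ J.restrictScalars k := by
          rw [W, Submodule.span_le]
          rintro _ ⟨p, rfl⟩
          exact Ideal.subset_span ⟨p, rfl⟩
        exact this hb
      change a * b ∈ J ^ (m + 1)
      rw [pow_succ]
      exact Ideal.mul_mem_mul (ih ha) hb'
  refine ⟨n, fun f hf => mem_V_mul_W_pow N n ((mem_weightedHomogeneousSubmodule ..).mp (W_pow_le _ hf)) ?_⟩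
  have h3 : f ∈ J ^ (n + 1) := hWJ _ hf
  exact hn (Ideal.pow_le_pow_right (Nat.le_succ n) h3)


theorem isIntegral_of_mem_W [IsAlgClosed k] (N : Fin c → α → β → k)
    (h : ∀ (x : α → k) (y : β → k), (∀ t, ∑ i, ∑ j, N t i j * (x i * y j) = 0) → x = 0 ∨ y = 0)
    {f : MvPolynomial (α ⊕ β) k} (hf : f ∈ W k α β) :
    IsIntegral (Algebra.adjoin k (Set.range (form N))) f := by
  classical
  obtain ⟨n, hn⟩ := exists_pow_le N h
  set A := Algebra.adjoin k (Set.range (form N)) with hA
  -- the finite module
  let T : Submodule k (MvPolynomial (α ⊕ β) k) := ⨆ m : Fin (n + 1), (W k α β) ^ (m : ℕ)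
  have hWfg : (W k α β).FG := Submodule.fg_span (Set.finite_range _)
  have hTfg : T.FG := Submodule.fg_iSup _ fun m => hWfg.pow _
  obtain ⟨F, hF⟩ := hTfg
  let M : Submodule A (MvPolynomial (α ⊕ β) k) := Submodule.span A (T : Set (MvPolynomial (α ⊕ β) k))
  have hTM : ∀ x ∈ T, x ∈ M := fun x hx => Submodule.subset_span hx
  have hMfg : M.FG := by
    refine ⟨F, le_antisymm ?_ ?_⟩
    · refine Submodule.span_mono ?_
      rw [← hF]
      exact Submodule.subset_span
    · refine Submodule.span_le.mpr ?_
      have h1 : T ≤ (Submodule.span A (F : Set (MvPolynomial (α ⊕ β) k))).restrictScalars k := by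
        rw [← hF]
        exact Submodule.span_le.mpr Submodule.subset_span
      exact h1
  refine isIntegral_of_smul_mem_submodule M ?_ hMfg f ?_
  · intro hbot
    have h1 : (1 : MvPolynomial (α ⊕ β) k) ∈ M := by
      refine hTM _ ?_
      refine Submodule.mem_iSup_of_mem (⟨0, by omega⟩ : Fin (n + 1)) ?_
      change (1 : MvPolynomial (α ⊕ β) k) ∈ (W k α β) ^ 0
      rw [pow_zero]
      exact Submodule.one_le.mp le_rfl
    rw [hbot, Submodule.mem_bot] at h1
    exact one_ne_zero h1
  · intro m hm
    refine Submodule.span_induction (p := fun m _ => f • m ∈ M) ?_ ?_ ?_ ?_ hm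
    · intro x hx
      have hle : T ≤ (M.restrictScalars k).comap (LinearMap.mulLeft k f) := by
        refine iSup_le fun j => ?_
        intro y hy
        change f * y ∈ M
        have h1 : f * y ∈ (W k α β) ^ ((j : ℕ) + 1) := by
          rw [pow_succ']
          exact Submodule.mul_mem_mul hf hy
        by_cases hj : (j : ℕ) < n
        · refine hTM _ (Submodule.mem_iSup_of_mem (⟨(j : ℕ) + 1, by omega⟩ : Fin (n + 1)) ?_)
          exact h1
        · have hjn : (j : ℕ) = n := by omega
          rw [hjn] at h1
          have h2 := hn h1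
          have h3 : V N * (W k α β) ^ n ≤ M.restrictScalars k := by
            refine Submodule.mul_le.mpr fun a ha b hb => ?_
            have haA : a ∈ A := by
              have : V N ≤ Subalgebra.toSubmodule A := Submodule.span_le.mpr Algebra.subset_adjoin
              exact this ha
            have hbM : b ∈ M := hTM _ (Submodule.mem_iSup_of_mem (⟨n, by omega⟩ : Fin (n + 1)) hb)
            exact M.smul_mem (⟨a, haA⟩ : A) hbM
          exact h3 h2
      exact hle hx
    · simp
    · intro x y _ _ hx hy
      rw [smul_add]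
      exact M.add_mem hx hy
    · intro a x _ hx
      rw [smul_comm]
      exact M.smul_mem _ hx

theorem card_add_card_le [IsAlgClosed k] [Nonempty α] [Nonempty β] (N : Fin c → α → β → k)
    (h : ∀ (x : α → k) (y : β → k), (∀ t, ∑ i, ∑ j, N t i j * (x i * y j) = 0) → x = 0 ∨ y = 0) :
    Fintype.card α + Fintype.card β ≤ c + 1 := by
  classical
  obtain ⟨i₀⟩ := (inferInstance : Nonempty α)
  obtain ⟨j₀⟩ := (inferInstance : Nonempty β)
  let s : Set (MvPolynomial (α ⊕ β) k) := Set.range (fun o : Option (Fin c) =>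
    o.elim (X (Sum.inr j₀) : MvPolynomial (α ⊕ β) k) (form N))
  have hsub : Set.range (form N) ⊆ s := by
    rintro _ ⟨t, rfl⟩
    exact ⟨some t, rfl⟩
  let B := Algebra.adjoin k s
  let A := Algebra.adjoin k (Set.range (form N))
  have hAB : A ≤ B := Algebra.adjoin_mono hsub
  have hW : ∀ f ∈ W k α β, IsAlgebraic B f := by
    intro f hf
    have h1 := isIntegral_of_mem_W N h hf
    have h2 : IsIntegral B f := by
      obtain ⟨p, hp, hpf⟩ := h1
      refine ⟨p.map (Subalgebra.inclusion hAB).toRingHom, hp.map _, ?_⟩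
      rw [Polynomial.eval₂_map]
      exact hpf
    exact h2.isAlgebraic
  have hy₀ : IsAlgebraic B (X (Sum.inr j₀) : MvPolynomial (α ⊕ β) k) :=
    isAlgebraic_algebraMap (⟨X (Sum.inr j₀), Algebra.subset_adjoin ⟨none, rfl⟩⟩ : B)
  have hx : ∀ i, IsAlgebraic B (X (Sum.inl i) : MvPolynomial (α ⊕ β) k) := by
    intro i
    refine IsAlgebraic.of_mul (y := X (Sum.inr j₀)) (mem_nonZeroDivisors_of_ne_zero (X_ne_zero _)) hy₀ ?_
    rw [mul_comm]
    exact hW _ (Submodule.subset_span ⟨(i, j₀), rfl⟩)
  have hy : ∀ j, IsAlgebraic B (X (Sum.inr j) : MvPolynomial (α ⊕ β) k) := by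
    intro j
    refine IsAlgebraic.of_mul (y := X (Sum.inl i₀)) (mem_nonZeroDivisors_of_ne_zero (X_ne_zero _)) (hx i₀) ?_
    exact hW _ (Submodule.subset_span ⟨(i₀, j), rfl⟩)
  have halg : Algebra.IsAlgebraic B (MvPolynomial (α ⊕ β) k) := by
    refine ⟨fun f => ?_⟩
    change f ∈ Subalgebra.algebraicClosure B (MvPolynomial (α ⊕ β) k)
    induction f using MvPolynomial.induction_on with
    | C r =>
      exact (isAlgebraic_algebraMap (algebraMap k B r) :
        IsAlgebraic B (algebraMap B (MvPolynomial (α ⊕ β) k) (algebraMap k B r)))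
    | add p q hp hq => exact add_mem hp hq
    | mul_X p i hp =>
      refine mul_mem hp ?_
      rcases i with i | j
      · exact hx i
      · exact hy j
  have h1 : Algebra.trdeg k (MvPolynomial (α ⊕ β) k) ≤ Cardinal.mk s :=
    Algebra.IsAlgebraic.trdeg_le_cardinalMk k s
  rw [MvPolynomial.trdeg_of_isDomain] at h1
  have h2 : Cardinal.mk s ≤ ((c + 1 : ℕ) : Cardinal) := by
    have h3 := Cardinal.mk_range_le_lift (f := fun o : Option (Fin c) =>
      o.elim (X (Sum.inr j₀) : MvPolynomial (α ⊕ β) k) (form N))
    simpa using h3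
  have h4 := h1.trans h2
  simp only [Cardinal.mk_fintype] at h4
  have h5 : ((Fintype.card α + Fintype.card β : ℕ) : Cardinal) ≤ ((c + 1 : ℕ) : Cardinal) := by
    simpa using h4
  exact_mod_cast h5

end Forms


open scoped TensorProduct

/-- The Hopf lemma over an algebraically closed field. -/
theorem finrank_add_finrank_le {k : Type*} [Field k] [IsAlgClosed k] (A B C : Type*)
    [AddCommGroup A] [Module k A] [AddCommGroup B] [Module k B]
    [AddCommGroup C] [Module k C] [FiniteDimensional k A] [FiniteDimensional k B]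
    [Nontrivial A] [Nontrivial B] (ν : A ⊗[k] B →ₗ[k] C)
    (h : ∀ a b, ν (a ⊗ₜ[k] b) = 0 → a = 0 ∨ b = 0) :
    Module.finrank k A + Module.finrank k B ≤ Module.finrank k (LinearMap.range ν) + 1 := by
  classical
  let bA := Module.finBasis k A
  let bB := Module.finBasis k B
  let bC := Module.finBasis k (LinearMap.range ν)
  have hA : 0 < Module.finrank k A := Module.finrank_pos
  have hB : 0 < Module.finrank k B := Module.finrank_pos
  have : Nonempty (Fin (Module.finrank k A)) := ⟨⟨0, hA⟩⟩
  have : Nonempty (Fin (Module.finrank k B)) := ⟨⟨0, hB⟩⟩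
  let ν' : A ⊗[k] B →ₗ[k] LinearMap.range ν := ν.rangeRestrict
  have key := card_add_card_le (k := k) (α := Fin (Module.finrank k A)) (β := Fin (Module.finrank k B))
    (fun t i j => bC.repr (ν' (bA i ⊗ₜ[k] bB j)) t) ?_
  · simpa using key
  · intro x y hxy
    set a := ∑ i, x i • bA i with ha
    set b := ∑ j, y j • bB j with hb
    have h1 : ν' (a ⊗ₜ[k] b) = 0 := by
      apply bC.repr.injective
      ext t
      rw [ha, hb, TensorProduct.sum_tmul, map_sum, map_sum, map_zero, Finsupp.finsetSum_apply,
        Finsupp.zero_apply]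
      rw [← hxy t]
      refine Finset.sum_congr rfl fun i _ => ?_
      rw [TensorProduct.tmul_sum, map_sum, map_sum, Finsupp.finsetSum_apply]
      refine Finset.sum_congr rfl fun j _ => ?_
      rw [TensorProduct.smul_tmul_smul, map_smul, map_smul, Finsupp.smul_apply, smul_eq_mul]
      ring
    have h2 : ν (a ⊗ₜ[k] b) = 0 := congrArg Subtype.val h1
    rcases h a b h2 with h3 | h3
    · left
      ext i
      have := Fintype.linearIndependent_iff.mp bA.linearIndependent x h3 i
      simpa using this
    · right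
      ext j
      have := Fintype.linearIndependent_iff.mp bB.linearIndependent y h3 j
      simpa using this

end K709.Hopf
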