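import Groth.Agent.VBCurve.K707.TensL
import Groth.Agent.VBCurve.K704.Base
import Groth.Agent.VBCurve.K708.Coho
import Groth.Agent.VBCurve.K708.Deg
import Groth.Agent.Dcoh.Restrict
import Groth.Agent.Ega3B.SectExact

/-!
# Bound of `h⁰` for submodules of semistable modules

* `exists_neg`: for every `m` an invertible submodule `N` of `O` of degree `-m`;
* `h0_le`: if `G` is a locally free submodule of a semistable `E` and `m > μ(E)`, then `h⁰(G) ≤ m rk(G)`.
-/

set_option autoImplicit false
universe u

open CategoryTheory CategoryTheory.Limits AlgebraicGeometry TopologicalSpace Opposite Module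

namespace K709.H0Bound

open Groth.Agent Groth.Agent.VarietyA Groth.Agent.VarietyA.TwistDown Groth.Agent.VarietyA.DegRank K707.Base K707.Deg K707.Slope K707.Semi K707.TensL
  K708.Coho

section general

variable {X : Scheme.{u}}

/-- Morphisms `O ⟶ M` are elements of `H^0(X, M)`. -/
noncomputable def unitEquivHH (M : X.Modules) : (Coh.structureModule X ⟶ M) ≃+ Coh.HH X M 0 :=
  (Dcoh.Restrict.unitEquiv M).trans (Ega3B.SectExact.secEquiv M).symm

theorem exists_ne_zero (k : Type u) [Field k] [X.Over (Spec (CommRingCat.of k))] (M : X.Modules)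
    (h : finrank k (Coh.HH X M 0) ≠ 0) : ∃ s : Coh.structureModule X ⟶ M, s ≠ 0 := by
  by_contra hcon
  push Not at hcon
  apply h
  have : Subsingleton (Coh.HH X M 0) := by
    refine ⟨fun a b => (unitEquivHH M).symm.injective ?_⟩
    rw [hcon ((unitEquivHH M).symm a), hcon ((unitEquivHH M).symm b)]
  exact Module.finrank_zero_of_subsingleton

theorem rank_O : FlatMod.IsFinLocFreeOfRank 1 (Coh.structureModule X) :=
  rank_one_iff.mpr Fdesc.LocGen.isInvertible_structureModule

theorem vb_O : FlatMod.IsFinLocFree (Coh.structureModule X) := isFinLocFree_of_rank rank_O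

end general

section sect

variable {X : Scheme.{u}}

theorem exists_map_of_section (N G N' E : X.Modules) (hN' : PicF.IsInvertible N')
    (e : CohB1.tensorMod N N' ≅ Coh.structureModule X) (s : Coh.structureModule X ⟶ (T G).obj N) (hs : s ≠ 0) (i : G ⟶ E) [Mono i] :
    ∃ t : N' ⟶ E, t ≠ 0 := by
  have heq : (T N').IsEquivalence := isEquivalence hN'
  let ε₁ : (T G).obj N ≅ (T N).obj G := Ega2.Tens.swap N G
  let ε₂ : (T N').obj ((T N).obj G) ≅ G := (PerfB.TensInv.tensorInvIso e).app G
  let lam : (T N').obj (Coh.structureModule X) ≅ N' := Ega2.Tens.lunit N'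
  refine ⟨lam.inv ≫ (T N').map (s ≫ ε₁.hom) ≫ ε₂.hom ≫ i, fun h0 => hs ?_⟩
  have h1 : (T N').map (s ≫ ε₁.hom) ≫ ε₂.hom ≫ i = 0 := by
    have h2 := congrArg (fun x => lam.hom ≫ x) h0
    simp only [Iso.hom_inv_id_assoc, comp_zero] at h2
    exact h2
  have h3 : (T N').map (s ≫ ε₁.hom) = 0 := by
    have : Mono (ε₂.hom ≫ i) := mono_comp _ _
    exact zero_of_comp_mono (ε₂.hom ≫ i) h1
  have h4 : s ≫ ε₁.hom = 0 := (T N').map_injective (by rw [h3, Functor.map_zero])
  exact zero_of_comp_mono ε₁.hom h4

end sect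

variable (k : Type u) [Field k] {X : Scheme.{u}} [X.Over (Spec (CommRingCat.of k))]
    [IsIntegral X] [IsProper (X ↘ (Spec (CommRingCat.of k)))]

omit [IsProper (X ↘ (Spec (CommRingCat.of k)))] in
theorem dg_O : dg k (Coh.structureModule X) = 0 := by
  rw [dg_of_rank k rank_O, K708.Deg.deg_structureModule]

theorem rk_O : rk (Coh.structureModule X) = 1 := rk_of_rank rank_O

omit [IsIntegral X] [IsProper (X ↘ (Spec (CommRingCat.of k)))] in
theorem mono_comp_lunit {N G : X.Modules} (hG : FlatMod.IsFinLocFree G) (ι : N ⟶ Coh.structureModule X) [Mono ι] :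
    Mono ((T G).map ι ≫ (Ega2.Tens.lunit G).hom) := by
  have := preservesFiniteLimits hG
  have : Mono ((T G).map ι) := inferInstance
  infer_instance

section closed

variable [IsAlgClosed k] (hdim : topologicalKrullDim X = 1)

include hdim in
theorem exists_neg_one : ∃ (N : X.Modules) (ι : N ⟶ Coh.structureModule X), Mono ι ∧ PicF.IsInvertible N ∧
    dg k N = -1 := by
  have := K707.Deg.isNoetherian k (X := X)
  have hNS : NoetherianSpace X := inferInstance
  obtain ⟨x, -, hxc, V, π, hπ⟩ := RegPoint.exists_closedPoint_locEq k hdim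
    (X ↘ (Spec (CommRingCat.of k))) ⊤ ⟨genericPoint X, trivial⟩
  have hO := Fdesc.LocGen.isInvertible_structureModule (X := X)
  have hN := isInvertible_vanish hO hxc hπ
  have f0 := CurveFin.finite_HH k X hO 0
  have f1 := CurveFin.finite_HH k X hN 1
  have e := TwistDim.finrank_seq k hO hxc
  refine ⟨(vanish (Coh.structureModule X) x).toModules, (vanish (Coh.structureModule X) x).ι, inferInstance, hN, ?_⟩
  rw [dg_of_rank k (rank_one_iff.mpr hN), K704.Base.deg_eq_one k X hdim]
  have e0 := K708.Deg.deg_structureModule (X := X) k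
  rw [K704.Base.deg_eq_one k X hdim] at e0
  omega

include hdim in
theorem exists_neg (m : ℕ) : ∃ (N : X.Modules) (ι : N ⟶ Coh.structureModule X), Mono ι ∧ PicF.IsInvertible N ∧
    dg k N = -m := by
  induction m with
  | zero =>
    exact ⟨Coh.structureModule X, 𝟙 _, inferInstance, Fdesc.LocGen.isInvertible_structureModule, by
      rw [dg_O]; simp⟩
  | succ m ih =>
    obtain ⟨N, ι, hι, hN, hd⟩ := ih
    obtain ⟨N', ι', hι', hN', hd'⟩ := exists_neg_one k hdim (X := X)
    refine ⟨CohB1.tensorMod N N', ((T N').map ι ≫ (Ega2.Tens.lunit N').hom) ≫ ι', ?_, ?_, ?_⟩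
    · have := mono_comp_lunit (vb_of_inv hN') ι
      exact @mono_comp _ _ _ _ _ _ this _ hι'
    · exact Fdesc.LocGen.isInvertible_tensorMod hN hN'
    · rw [dg_tensor k hdim (rank_one_iff.mpr hN') (isCoh_of_rank (rank_one_iff.mpr hN)),
        rk_of_rank (rank_one_iff.mpr hN), hd, hd']
      push_cast
      ring

include hdim in
/-- Bound for the global sections of a locally free submodule of a semistable module. -/
theorem h0_le (C : Crv k X) {E G : X.Modules} (hE : FlatMod.IsFinLocFree E) (hss : SS k E) (i : G ⟶ E) [Mono i]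
    (hG : FlatMod.IsFinLocFree G) (m : ℕ) (hm : dg k E < m * rk E) :
    finrank k (Coh.HH X G 0) ≤ m * rk G := by
  have := K707.Deg.isNoetherian k (X := X)
  obtain ⟨N, ι, hι, hN, hd⟩ := exists_neg k hdim m (X := X)
  have hNr := rank_one_iff.mpr hN
  have hNc := isCoh_of_rank hNr
  have hGr := isFinLocFreeOfRank_rk hG
  have hGc := coh_of_vb hG
  let A : X.Modules := (T G).obj N
  have hAc : Coh.IsCoh A := coh_tensor hGr hNc
  have hAd : dg k A = dg k G - m * rk G := by
    change dg k (CohB1.tensorMod N G) = _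
    rw [dg_tensor k hdim hGr hNc, rk_of_rank hNr, hd]
    push_cast
    ring
  have hAr : rk A = rk G := by
    change rk (CohB1.tensorMod N G) = _
    rw [rk_tensor hGr hNc, rk_of_rank hNr, mul_one]
  let α : A ⟶ G := (T G).map ι ≫ (Ega2.Tens.lunit G).hom
  have hα : Mono α := mono_comp_lunit hG ι
  obtain ⟨e1, e2⟩ := mono_numbers C α hAc hGc
  have hQc := coh_cokernel α hAc hGc
  have hQ0 := subsingleton_of_rk_eq_zero hQc (show rk (cokernel α) = 0 by omega)
  have hQ : (finrank k (Coh.HH X (cokernel α) 0) : ℤ) = m * rk G := by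
    rw [← euler_of_torsion k hdim hQc hQ0, ← dg_eq_euler_of_torsion k hQ0]
    omega
  have h1 := finrank_HH_le_add k (cokernel_shortExact α) hAc hGc hQc 0
  have h2 : finrank k (Coh.HH X A 0) = 0 := by
    by_contra hne
    obtain ⟨s, hs⟩ := exists_ne_zero k A hne
    obtain ⟨N', hN', ⟨e⟩⟩ := Grpsch.PicGrp.exists_inverse hN
    obtain ⟨t, ht⟩ := exists_map_of_section N G N' E hN' e s hs i
    have hN'r := rank_one_iff.mpr hN'
    have hdN' : dg k N' = m := by
      have h3 := K708.Deg.deg_eq_neg k hdim.le hNr hN'r e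
      rw [dg_of_rank k hN'r, h3, ← dg_of_rank k hNr, hd]
      ring
    obtain ⟨I, p, j, hp, hj, hpj, hI, hpos, f1, f2, f3, f4⟩ :=
      exists_factor_pos C t ht (isCoh_of_rank hN'r) hE
    have hk : rk (kernel t) = 0 := by
      rw [rk_of_rank hN'r] at f1
      omega
    have hkz := isZero_of_rk_eq_zero C (vb_kernel C t (isFinLocFree_of_rank hN'r) (coh_of_vb hE)) hk
    have hkd : dg k (kernel t) = 0 := dg_of_isZero hkz
    have h5 := hss I j hj hI
    have h6 : rk I = 1 := by
      rw [rk_of_rank hN'r] at f1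
      omega
    rw [h6] at h5
    push_cast at h5
    have h7 : dg k I = m := by omega
    rw [h7] at h5
    omega
  rw [h2, zero_add] at h1
  have h3 : (finrank k (Coh.HH X G 0) : ℤ) ≤ m * rk G := by
    rw [← hQ]
    exact_mod_cast h1
  exact_mod_cast h3

end closed

end K709.H0Bound
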