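import Mathlib.Algebra.Homology.CommSq
import Mathlib.Algebra.Homology.ShortComplex.ShortExact
import Mathlib.Algebra.Homology.ShortComplex.ExactFunctor
import Mathlib.CategoryTheory.Abelian.Basic
import Mathlib.CategoryTheory.Preadditive.AdditiveFunctor
import Mathlib.CategoryTheory.Limits.Preserves.Shapes.Kernels

/-!
# Short exact sequences attached to commutative squares, tested on a family of exact functors
-/

set_option autoImplicit false

open CategoryTheory CategoryTheory.Limits

namespace K709.Square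

universe v u v' u'

variable {C : Type u} [Category.{v} C] {D : Type u'} [Category.{v'} D]

section

variable [Preadditive C] [Preadditive D] {X₁ X₂ X₃ X₄ : C} [HasBinaryBiproduct X₂ X₃]
  {f : X₁ ⟶ X₂} {g : X₁ ⟶ X₃} {inl : X₂ ⟶ X₄} {inr : X₃ ⟶ X₄}

/-- The image of the short complex of a square whose horizontal arrows become invertible splits. -/
noncomputable def splittingHoriz (sq : CommSq f g inl inr) (F : C ⥤ D) [F.Additive]
    [IsIso (F.map f)] [IsIso (F.map inr)] : (sq.shortComplex.map F).Splitting where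
  r := show F.obj (X₂ ⊞ X₃) ⟶ F.obj X₁ from F.map biprod.fst ≫ inv (F.map f)
  s := show F.obj X₄ ⟶ F.obj (X₂ ⊞ X₃) from inv (F.map inr) ≫ F.map biprod.inr
  f_r := by
    change F.map (biprod.lift f (-g)) ≫ F.map biprod.fst ≫ inv (F.map f) = 𝟙 _
    rw [← Category.assoc, ← F.map_comp, biprod.lift_fst, IsIso.hom_inv_id]
  s_g := by
    change (inv (F.map inr) ≫ F.map biprod.inr) ≫ F.map (biprod.desc inl inr) = 𝟙 _
    rw [Category.assoc, ← F.map_comp, biprod.inr_desc, IsIso.inv_hom_id]
  id := by
    change (F.map biprod.fst ≫ inv (F.map f)) ≫ F.map (biprod.lift f (-g)) +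
      F.map (biprod.desc inl inr) ≫ (inv (F.map inr) ≫ F.map biprod.inr) = 𝟙 _
    have h1 : inv (F.map f) ≫ F.map g = F.map inl ≫ inv (F.map inr) := by
      rw [IsIso.inv_comp_eq, ← Category.assoc, IsIso.eq_comp_inv, ← F.map_comp, ← F.map_comp, sq.w]
    have h2 : F.map (biprod.lift f (-g)) = F.map f ≫ F.map biprod.inl - F.map g ≫ F.map biprod.inr := by
      rw [← F.map_comp, ← F.map_comp, ← F.map_sub]
      congr 1
      ext <;> simp
    have h3 : F.map (biprod.desc inl inr) = F.map biprod.fst ≫ F.map inl + F.map biprod.snd ≫ F.map inr := by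
      rw [← F.map_comp, ← F.map_comp, ← F.map_add]
      congr 1
      ext <;> simp
    have h4 : (𝟙 (F.obj (X₂ ⊞ X₃))) = F.map biprod.fst ≫ F.map biprod.inl +
        F.map biprod.snd ≫ F.map biprod.inr := by
      rw [← F.map_comp, ← F.map_comp, ← F.map_add, biprod.total, F.map_id]
    refine Eq.trans ?_ h4.symm
    rw [h2, h3, Preadditive.comp_sub, Preadditive.add_comp]
    simp only [Category.assoc, IsIso.inv_hom_id_assoc, IsIso.hom_inv_id_assoc]
    rw [← Category.assoc (inv (F.map f)) (F.map g), h1]
    simp only [Category.assoc]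
    abel

/-- The same for the vertical arrows. -/
noncomputable def splittingVert (sq : CommSq f g inl inr) (F : C ⥤ D) [F.Additive]
    [IsIso (F.map g)] [IsIso (F.map inl)] : (sq.shortComplex.map F).Splitting where
  r := show F.obj (X₂ ⊞ X₃) ⟶ F.obj X₁ from - (F.map biprod.snd ≫ inv (F.map g))
  s := show F.obj X₄ ⟶ F.obj (X₂ ⊞ X₃) from inv (F.map inl) ≫ F.map biprod.inl
  f_r := by
    change F.map (biprod.lift f (-g)) ≫ (- (F.map biprod.snd ≫ inv (F.map g))) = 𝟙 _
    rw [Preadditive.comp_neg, ← Category.assoc, ← F.map_comp, biprod.lift_snd, F.map_neg,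
      Preadditive.neg_comp, neg_neg, IsIso.hom_inv_id]
  s_g := by
    change (inv (F.map inl) ≫ F.map biprod.inl) ≫ F.map (biprod.desc inl inr) = 𝟙 _
    rw [Category.assoc, ← F.map_comp, biprod.inl_desc, IsIso.inv_hom_id]
  id := by
    change (-(F.map biprod.snd ≫ inv (F.map g))) ≫ F.map (biprod.lift f (-g)) +
      F.map (biprod.desc inl inr) ≫ (inv (F.map inl) ≫ F.map biprod.inl) = 𝟙 _
    have h1 : inv (F.map g) ≫ F.map f = F.map inr ≫ inv (F.map inl) := by
      rw [IsIso.inv_comp_eq, ← Category.assoc, IsIso.eq_comp_inv, ← F.map_comp, ← F.map_comp, sq.w]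
    have h2 : F.map (biprod.lift f (-g)) = F.map f ≫ F.map biprod.inl - F.map g ≫ F.map biprod.inr := by
      rw [← F.map_comp, ← F.map_comp, ← F.map_sub]
      congr 1
      ext <;> simp
    have h3 : F.map (biprod.desc inl inr) = F.map biprod.fst ≫ F.map inl + F.map biprod.snd ≫ F.map inr := by
      rw [← F.map_comp, ← F.map_comp, ← F.map_add]
      congr 1
      ext <;> simp
    have h4 : (𝟙 (F.obj (X₂ ⊞ X₃))) = F.map biprod.fst ≫ F.map biprod.inl +
        F.map biprod.snd ≫ F.map biprod.inr := by
      rw [← F.map_comp, ← F.map_comp, ← F.map_add, biprod.total, F.map_id]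
    refine Eq.trans ?_ h4.symm
    rw [h2, h3, Preadditive.comp_sub, Preadditive.add_comp]
    simp only [Category.assoc, IsIso.inv_hom_id_assoc, IsIso.hom_inv_id_assoc, Preadditive.neg_comp]
    rw [← Category.assoc (inv (F.map g)) (F.map f), h1]
    simp only [Category.assoc]
    abel

end

section Family

variable [Abelian C] [Abelian D] {ι : Type*} (F : ι → C ⥤ D)
  [∀ i, (F i).Additive] [∀ i, PreservesFiniteLimits (F i)] [∀ i, PreservesFiniteColimits (F i)]

omit [∀ i, PreservesFiniteColimits (F i)] in
include F in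
theorem mono_of_family (hF : ∀ M : C, (∀ i, IsZero ((F i).obj M)) → IsZero M) {M N : C} (φ : M ⟶ N)
    (h : ∀ i, Mono ((F i).map φ)) : Mono φ := by
  refine Preadditive.mono_of_isZero_kernel φ (hF _ fun i => ?_)
  have := h i
  exact (isZero_kernel_of_mono ((F i).map φ)).of_iso (PreservesKernel.iso (F i) φ)

omit [∀ i, PreservesFiniteLimits (F i)] in
include F in
theorem epi_of_family (hF : ∀ M : C, (∀ i, IsZero ((F i).obj M)) → IsZero M) {M N : C} (φ : M ⟶ N)
    (h : ∀ i, Epi ((F i).map φ)) : Epi φ := by
  refine Preadditive.epi_of_isZero_cokernel φ (hF _ fun i => ?_)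
  have := h i
  exact (isZero_cokernel_of_epi ((F i).map φ)).of_iso (PreservesCokernel.iso (F i) φ)

include F in
/-- Short exactness is tested on a jointly conservative family of exact functors. -/
theorem shortExact_of_family (hF : ∀ M : C, (∀ i, IsZero ((F i).obj M)) → IsZero M)
    (S : ShortComplex C) (h : ∀ i, (S.map (F i)).ShortExact) : S.ShortExact := by
  have hm : Mono S.f := mono_of_family F hF S.f fun i => (h i).mono_f
  have he : Epi S.g := epi_of_family F hF S.g fun i => (h i).epi_g
  refine ⟨?_⟩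
  rw [ShortComplex.exact_iff_isZero_homology]
  refine hF _ fun i => ?_
  have h1 := (h i).exact
  rw [ShortComplex.exact_iff_isZero_homology] at h1
  exact h1.of_iso (S.mapHomologyIso (F i)).symm

end Family

end K709.Square
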