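import Groth.Agent.Krr.H455.RelCast
import Groth.Agent.Fga.KoszulShift
import Groth.Agent.VBCurve.K709.Square

/-!
# The exact sequence `0 → O(a) → O(a+1) ⊕ O(b) → O(b+1) → 0` on the projective line over a scheme
-/

set_option autoImplicit false
universe u

open CategoryTheory CategoryTheory.Limits AlgebraicGeometry Opposite TopologicalSpace

namespace K709.P1Koszul

open Groth.Agent Groth.Agent.Krr.H455.RelCast

section

variable (n : ℕ) (Y : Scheme.{u})

/-- Multiplication by `X_i ^ m`, as a map `O(a) ⟶ O(b)` for `b = a + m`. -/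
noncomputable def mulPow (i : Fin (n + 1)) : (m : ℕ) → (a b : ℤ) → (h : b = a + m) →
    (Twist.twistOver n Y a ⟶ Twist.twistOver n Y b)
  | 0, a, b, h => eqToHom (by rw [h]; simp)
  | m + 1, a, b, h => mulOver n Y i a ≫ mulPow i m (a + 1) b (by rw [h]; push_cast; ring)

theorem mulPow_zero (i : Fin (n + 1)) (a : ℤ) (h : a = a + (0 : ℕ)) :
    mulPow n Y i 0 a a h = 𝟙 _ := rfl

theorem mulPow_succ (i : Fin (n + 1)) (m : ℕ) (a b : ℤ) (h : b = a + (m + 1 : ℕ)) :
    mulPow n Y i (m + 1) a b h =
      mulOver n Y i a ≫ mulPow n Y i m (a + 1) b (by rw [h]; push_cast; ring) := rfl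

theorem mulPow_mulOver (i j : Fin (n + 1)) (m : ℕ) : ∀ (a b : ℤ) (h : b = a + m),
    mulPow n Y i m a b h ≫ mulOver n Y j b =
      mulOver n Y j a ≫ mulPow n Y i m (a + 1) (b + 1) (by rw [h]; ring) := by
  induction m with
  | zero =>
    intro a b h
    obtain rfl : b = a := by simpa using h
    rw [mulPow_zero, mulPow_zero, Category.id_comp, Category.comp_id]
  | succ m ih =>
    intro a b h
    rw [mulPow_succ, mulPow_succ, Category.assoc, ih, ← Category.assoc, mulOver_comm, Category.assoc]

theorem isIso_stalk_mulOver (i : Fin (n + 1)) (a : ℤ) (p : CohB1.ProjSpaceOver n Y)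
    (hp : p ∈ dplusOver n Y i) : IsIso ((CycB.StalkExact.stalkFun p).map (mulOver n Y i a)) :=
  Fga.TwistGr.isIso_stalk_of_app _ (dplusOver n Y i)
    (fun V hV => mulOver_app_bijective n Y i a V hV) p hp

theorem isIso_stalk_mulPow (i : Fin (n + 1)) (p : CohB1.ProjSpaceOver n Y)
    (hp : p ∈ dplusOver n Y i) (m : ℕ) : ∀ (a b : ℤ) (h : b = a + m),
    IsIso ((CycB.StalkExact.stalkFun p).map (mulPow n Y i m a b h)) := by
  induction m with
  | zero =>
    intro a b h
    obtain rfl : b = a := by simpa using h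
    rw [mulPow_zero]
    infer_instance
  | succ m ih =>
    intro a b h
    rw [mulPow_succ, Functor.map_comp]
    have h1 := isIso_stalk_mulOver n Y i a p hp
    have h2 := ih (a + 1) b (by rw [h]; push_cast; ring)
    infer_instance

/-- The commutative square with the arrows `X_0` and `X_1 ^ m`. -/
theorem commSq (i j : Fin (n + 1)) (m : ℕ) (a b : ℤ) (h : b = a + m) :
    CommSq (mulOver n Y i a) (mulPow n Y j m a b h) (mulPow n Y j m (a + 1) (b + 1) (by rw [h]; ring))
      (mulOver n Y i b) :=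
  ⟨(mulPow_mulOver n Y j i m a b h).symm⟩

end

/-- The Koszul sequence of `X_0` and `X_1 ^ m` on the projective line. -/
theorem shortExact (Y : Scheme.{u}) (m : ℕ) (a b : ℤ) (h : b = a + m) :
    (commSq 1 Y 0 1 m a b h).shortComplex.ShortExact := by
  refine Square.shortExact_of_family (fun p : CohB1.ProjSpaceOver 1 Y => CycB.StalkExact.stalkFun p)
    (fun M hM => Fga.KoszulShift.isZero_of_stalk M hM) _ fun p => ?_
  obtain ⟨i, hi⟩ := exists_mem_dplusOver 1 Y p
  have hi' : i = 0 ∨ i = 1 := by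
    fin_cases i <;> simp
  rcases hi' with rfl | rfl
  · have h1 := isIso_stalk_mulOver 1 Y 0 a p hi
    have h2 := isIso_stalk_mulOver 1 Y 0 b p hi
    exact (Square.splittingHoriz (commSq 1 Y 0 1 m a b h) (CycB.StalkExact.stalkFun p)).shortExact
  · have h1 := isIso_stalk_mulPow 1 Y 1 p hi m a b h
    have h2 := isIso_stalk_mulPow 1 Y 1 p hi m (a + 1) (b + 1) (by rw [h]; ring)
    exact (Square.splittingVert (commSq 1 Y 0 1 m a b h) (CycB.StalkExact.stalkFun p)).shortExact

end K709.P1Koszul
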